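import Cfsg.Agent.Lib.MaxSub.SubspaceMaximalOrthBasic

/-!
Non-degenerate planes over a finite field: points, classes of values, and the values `B(x,a)^2 / R(a)`.
-/

set_option autoImplicit false
set_option maxHeartbeats 400000

namespace CfsgLib.MaxSub.OrthBlocks

open QuadraticMap Module CfsgLib.SpinorNorm

variable {F V : Type*} [Field F] [AddCommGroup V] [Module F V]

/-- A plane with a non-degenerate polar form. -/
structure NPlane (R : QuadraticForm F V) (P : Submodule F V) : Prop where
  rank : finrank F P = 2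
  nd : ∀ x ∈ P, (∀ y ∈ P, polar R x y = 0) → x = 0

/-- Representatives of the points of a plane. -/
structure Pts (P : Submodule F V) (L : Finset V) [Fintype F] : Prop where
  card : L.card = Fintype.card F + 1
  mem : ∀ z ∈ L, z ∈ P
  span : ∀ z ∈ L, ∀ w ∈ L, z ≠ w → ∀ x ∈ P, ∃ α β : F, α • z + β • w = x
  indep : ∀ z ∈ L, ∀ w ∈ L, z ≠ w → ∀ t : F, z ≠ t • w

variable [Fintype F] {R : QuadraticForm F V} {P : Submodule F V}

theorem Pts.ne_zero {L : Finset V} (hL : Pts P L) {z : V} (hz : z ∈ L) : z ≠ 0 := by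
  intro h0
  obtain ⟨w, hw, hne⟩ := Finset.exists_mem_ne (s := L)
    (by rw [hL.card]; have := Fintype.card_pos (α := F); omega) z
  exact hL.indep z hz w hw hne.symm 0 (by rw [zero_smul, h0])

theorem exists_pts (hP : NPlane R P) : ∃ L, Pts P L := by
  classical
  haveI : FiniteDimensional F P := FiniteDimensional.of_finrank_eq_succ hP.rank
  obtain ⟨b⟩ : Nonempty (Module.Basis (Fin 2) F P) := ⟨Module.finBasisOfFinrankEq F P hP.rank⟩
  let pt : Option F → V := fun o => o.elim (b 1).1 (fun s => (b 0).1 + s • (b 1).1)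
  have hrep : ∀ x ∈ P, ∃ α β : F, α • (b 0).1 + β • (b 1).1 = x := fun x hx =>
    ⟨b.repr ⟨x, hx⟩ 0, b.repr ⟨x, hx⟩ 1, by
      have := congrArg Subtype.val (b.sum_repr ⟨x, hx⟩)
      rw [Fin.sum_univ_two] at this
      exact this⟩
  have hlin : ∀ α β : F, α • (b 0).1 + β • (b 1).1 = 0 → α = 0 ∧ β = 0 := fun α β h => by
    have h1 : α • b 0 + β • b 1 = 0 := Subtype.ext h
    have h2 := Fintype.linearIndependent_iff.1 b.linearIndependent ![α, β]
      (by rw [Fin.sum_univ_two]; simpa using h1)
    exact ⟨h2 0, h2 1⟩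
  have hind : ∀ o o', o ≠ o' → ∀ t : F, pt o ≠ t • pt o' := by
    intro o o' hne t h
    rcases o with _ | s <;> rcases o' with _ | s'
    · exact hne rfl
    · simp only [pt, Option.elim] at h
      obtain ⟨h1, h2⟩ := hlin t (t * s' - 1)
        (by rw [sub_smul, one_smul, mul_smul, ← add_sub_assoc, ← smul_add, ← h, sub_self])
      rw [h1] at h2
      simp at h2
    · simp only [pt, Option.elim] at h
      obtain ⟨h1, -⟩ := hlin 1 (s - t) (by rw [one_smul, sub_smul, ← add_sub_assoc, h, sub_self])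
      exact one_ne_zero h1
    · simp only [pt, Option.elim] at h
      obtain ⟨h1, h2⟩ := hlin (1 - t) (s - t * s')
        (by rw [sub_smul, one_smul, sub_smul, mul_smul, sub_add_sub_comm, h, ← smul_add, sub_self])
      rw [← sub_eq_zero.1 h1, one_mul] at h2
      exact hne (congrArg some (sub_eq_zero.1 h2))
  have hinj : Function.Injective pt := fun o o' h => by
    by_contra hne
    exact hind o o' hne 1 (by rw [one_smul, h])
  have hspan : ∀ o o', o ≠ o' → ∀ x ∈ P, ∃ α β : F, α • pt o + β • pt o' = x := by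
    intro o o' hne x hx
    obtain ⟨α, β, rfl⟩ := hrep x hx
    rcases o with _ | s <;> rcases o' with _ | s'
    · exact absurd rfl hne
    · exact ⟨β - α * s', α, by simp only [pt, Option.elim]; module⟩
    · exact ⟨α, β - α * s, by simp only [pt, Option.elim]; module⟩
    · have hs : s - s' ≠ 0 := sub_ne_zero.2 fun h => hne (by rw [h])
      refine ⟨(β - α * s') / (s - s'), α - (β - α * s') / (s - s'), ?_⟩
      simp only [pt, Option.elim]
      match_scalars
      · ring
      · field_simp
        ring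
  refine ⟨Finset.univ.image pt, ⟨?_, ?_, ?_, ?_⟩⟩
  · rw [Finset.card_image_of_injective _ hinj, Finset.card_univ, Fintype.card_option]
  · intro z hz
    obtain ⟨o, -, rfl⟩ := Finset.mem_image.1 hz
    rcases o with _ | s
    · exact (b 1).2
    · exact P.add_mem (b 0).2 (P.smul_mem s (b 1).2)
  · intro z hz w hw hzw
    obtain ⟨o, -, rfl⟩ := Finset.mem_image.1 hz
    obtain ⟨o', -, rfl⟩ := Finset.mem_image.1 hw
    exact hspan o o' fun h => hzw (by rw [h])
  · intro z hz w hw hzw
    obtain ⟨o, -, rfl⟩ := Finset.mem_image.1 hz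
    obtain ⟨o', -, rfl⟩ := Finset.mem_image.1 hw
    exact hind o o' fun h => hzw (by rw [h])

/-- A quadratic function which is not zero on the plane vanishes at two points at most. -/
theorem Pts.zeros [DecidableEq V] {L : Finset V} (hL : Pts P L) (Φ : QuadraticForm F V)
    [DecidablePred fun z => Φ z = 0] (h : ∃ x ∈ P, Φ x ≠ 0) :
    (L.filter fun z => Φ z = 0).card ≤ 2 := by
  by_contra hc
  obtain ⟨a, b, c, ha, hb, hc', hab, hac, hbc⟩ := Finset.two_lt_card_iff.1 (not_le.1 hc)
  obtain ⟨ha, fa⟩ := Finset.mem_filter.1 ha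
  obtain ⟨hb, fb⟩ := Finset.mem_filter.1 hb
  obtain ⟨hc', fc⟩ := Finset.mem_filter.1 hc'
  obtain ⟨α, β, rfl⟩ := hL.span a ha b hb hab c (hL.mem c hc')
  have hα : α ≠ 0 := fun h0 => hL.indep _ hc' b hb hbc.symm β (by rw [h0, zero_smul, zero_add])
  have hβ : β ≠ 0 := fun h0 => hL.indep _ hc' a ha hac.symm α (by rw [h0, zero_smul, add_zero])
  rw [QuadraticMap.map_add Φ, QuadraticMap.map_smul, QuadraticMap.map_smul, fa, fb,
    polar_smul_left, polar_smul_right] at fc
  simp only [smul_eq_mul, mul_zero, zero_add] at fc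
  have hp : polar Φ a b = 0 := by
    rcases mul_eq_zero.1 fc with h' | h'
    · exact absurd h' hα
    · exact (mul_eq_zero.1 h').resolve_left hβ
  obtain ⟨x, hx, hx0⟩ := h
  obtain ⟨γ, δ, rfl⟩ := hL.span a ha b hb hab x hx
  exact hx0 (by
    rw [QuadraticMap.map_add Φ, QuadraticMap.map_smul, QuadraticMap.map_smul, fa, fb,
      polar_smul_left, polar_smul_right, hp]
    simp)

/-- A functional which is not zero on the plane vanishes at one point at most. -/
theorem Pts.zeros_lin {L : Finset V} (hL : Pts P L) (φ : V →ₗ[F] F)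
    [DecidablePred fun z => φ z = 0] (h : ∃ x ∈ P, φ x ≠ 0) :
    (L.filter fun z => φ z = 0).card ≤ 1 := by
  refine Finset.card_le_one.2 fun a ha b hb => ?_
  by_contra hab
  obtain ⟨ha, fa⟩ := Finset.mem_filter.1 ha
  obtain ⟨hb, fb⟩ := Finset.mem_filter.1 hb
  obtain ⟨x, hx, hx0⟩ := h
  obtain ⟨γ, δ, rfl⟩ := hL.span a ha b hb hab x hx
  exact hx0 (by simp [fa, fb])

theorem NPlane.exists_polar (hP : NPlane R P) {x : V} (hx : x ∈ P) (hx0 : x ≠ 0) :
    ∃ y ∈ P, polar R x y ≠ 0 := by
  by_contra h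
  push Not at h
  exact hx0 (hP.nd x hx h)

theorem NPlane.exists_ne (hP : NPlane R P) : ∃ x ∈ P, R x ≠ 0 := by
  by_contra h
  push Not at h
  have hbot : P = ⊥ := eq_bot_iff.2 fun x hx => (Submodule.mem_bot F).2
    (hP.nd x hx fun y hy => CfsgLib.MaxSub.Orth.polar_eq_zero_of_sing h hx hy)
  have := hP.rank
  rw [hbot, finrank_bot] at this
  omega

/-- A singular vector in the plane. -/
def HasSing (R : QuadraticForm F V) (P : Submodule F V) : Prop := ∃ z ∈ P, z ≠ 0 ∧ R z = 0

/-- Planes large enough. -/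
def Big (R : QuadraticForm F V) (P : Submodule F V) : Prop :=
  Fintype.card F ≠ 3 ∧ (HasSing R P → 7 ≤ Fintype.card F)

theorem Pts.sing_le [DecidableEq V] [DecidableEq F] (hP : NPlane R P) {L : Finset V} (hL : Pts P L) :
    (L.filter fun z => R z = 0).card ≤ 2 ∧
      (¬ HasSing R P → (L.filter fun z => R z = 0).card = 0) := by
  refine ⟨hL.zeros R hP.exists_ne, fun h => ?_⟩
  rw [Finset.card_eq_zero, Finset.filter_eq_empty_iff]
  exact fun z hz h0 => h ⟨z, hL.mem z hz, hL.ne_zero hz, h0⟩

/-- Each class of values takes a vector outside the kernel of a given functional. -/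
theorem exists_class (hP : NPlane R P) (hB : Big R P) (φ : V →ₗ[F] F) (hφ : ∃ x ∈ P, φ x ≠ 0)
    {c : F} (hc : c ≠ 0) : ∃ a ∈ P, R a = c ∧ φ a ≠ 0 := by
  classical
  haveI : FiniteDimensional F P := FiniteDimensional.of_finrank_eq_succ hP.rank
  obtain ⟨a₀', ha₀'⟩ := CfsgLib.MaxSub.Orth.exists_value (R.comp P.subtype)
    (CfsgLib.MaxSub.Orth.nondeg_comp hP.nd) (by rw [hP.rank]) hc
  set a₀ := a₀'.1
  have ha₀ : R a₀ = c := ha₀'
  by_cases h0 : φ a₀ = 0
  swap
  · exact ⟨a₀, a₀'.2, ha₀, h0⟩
  have ha0 : a₀ ≠ 0 := fun h => hc (by rw [← ha₀, h, QuadraticMap.map_zero])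
  obtain ⟨L, hL⟩ := exists_pts hP
  obtain ⟨z, hz, hzR, hzφ, hzB⟩ : ∃ z ∈ L, R z ≠ 0 ∧ φ z ≠ 0 ∧ polar R a₀ z ≠ 0 := by
    by_contra hno
    push Not at hno
    have hsub : L ⊆ (L.filter fun z => R z = 0) ∪ ((L.filter fun z => φ z = 0) ∪
        (L.filter fun z => polarBilin R a₀ z = 0)) := fun z hz => by
      simp only [Finset.mem_union, Finset.mem_filter]
      by_cases h1 : R z = 0
      · exact Or.inl ⟨hz, h1⟩
      by_cases h2 : φ z = 0
      · exact Or.inr (Or.inl ⟨hz, h2⟩)
      exact Or.inr (Or.inr ⟨hz, hno z hz h1 h2⟩)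
    have h1 := Finset.card_le_card hsub
    have h2 := Finset.card_union_le (L.filter fun z => R z = 0) ((L.filter fun z => φ z = 0) ∪
        (L.filter fun z => polarBilin R a₀ z = 0))
    have h3 := Finset.card_union_le (L.filter fun z => φ z = 0)
        (L.filter fun z => polarBilin R a₀ z = 0)
    have h4 := hL.zeros_lin φ hφ
    have h5 := hL.zeros_lin (polarBilin R a₀) (hP.exists_polar a₀'.2 ha0)
    obtain ⟨h6, h7⟩ := hL.sing_le hP
    have h8 := hL.card
    have h9 := Fintype.one_lt_card (α := F)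
    by_cases hs : HasSing R P
    · have := hB.2 hs
      omega
    · have := h7 hs
      omega
  refine ⟨(refl R hzR).1 a₀, ?_, ((refl R hzR).2 a₀).trans ha₀, ?_⟩
  · rw [refl_apply]
    exact P.add_mem a₀'.2 (P.smul_mem _ (hL.mem z hz))
  · rw [refl_apply, map_add, h0, map_smul, zero_add, smul_eq_mul, polar_comm R z a₀]
    exact mul_ne_zero (neg_ne_zero.2 (mul_ne_zero (inv_ne_zero hzR) hzB)) hzφ

/-- Each class of values takes a vector outside the kernels of two given functionals. -/
theorem exists_class_two (hP : NPlane R P) (hB : Big R P) (φ ψ : V →ₗ[F] F)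
    (hφ : ∃ x ∈ P, φ x ≠ 0) (hψ : ∃ x ∈ P, ψ x ≠ 0) {c : F} (hc : c ≠ 0) :
    ∃ a ∈ P, R a = c ∧ φ a ≠ 0 ∧ ψ a ≠ 0 := by
  classical
  obtain ⟨L, hL⟩ := exists_pts hP
  obtain ⟨a₀, ha₀P, ha₀, ha₀φ⟩ := exists_class hP hB φ hφ hc
  have hLc := hL.card
  obtain ⟨hs1, hs2⟩ := hL.sing_le hP
  by_cases hq : Fintype.card F = 2
  · have hns : ¬ HasSing R P := fun h => by have := hB.2 h; omega
    obtain ⟨z, hz, hzφ, hzψ⟩ : ∃ z ∈ L, φ z ≠ 0 ∧ ψ z ≠ 0 := by
      by_contra hno
      push Not at hno
      have hsub : L ⊆ (L.filter fun z => φ z = 0) ∪ (L.filter fun z => ψ z = 0) := fun z hz => by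
        simp only [Finset.mem_union, Finset.mem_filter]
        by_cases h1 : φ z = 0
        · exact Or.inl ⟨hz, h1⟩
        · exact Or.inr ⟨hz, hno z hz h1⟩
      have := Finset.card_le_card hsub
      have := Finset.card_union_le (L.filter fun z => φ z = 0) (L.filter fun z => ψ z = 0)
      have := hL.zeros_lin φ hφ
      have := hL.zeros_lin ψ hψ
      omega
    refine ⟨z, hL.mem z hz, ?_, hzφ, hzψ⟩
    have hone : ∀ u : F, u ≠ 0 → u = 1 := fun u hu => by
      have := Finset.card_le_univ ({0, 1, u} : Finset F)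
      by_contra h1
      rw [Finset.card_insert_of_notMem (by simp [hu.symm]), Finset.card_pair (Ne.symm h1)] at this
      omega
    rw [hone c hc, hone (R z) fun h => hns ⟨z, hL.mem z hz, hL.ne_zero hz, h⟩]
  by_cases ha₀ψ : ψ a₀ = 0
  swap
  · exact ⟨a₀, ha₀P, ha₀, ha₀φ, ha₀ψ⟩
  have ha0 : a₀ ≠ 0 := fun h => hc (by rw [← ha₀, h, QuadraticMap.map_zero])
  let Φ : QuadraticForm F V := φ a₀ • R - linMulLin (polarBilin R a₀) φ
  have hΦ : ∀ z, Φ z = φ a₀ * R z - polar R a₀ z * φ z := fun z => by simp [Φ, linMulLin_apply]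
  obtain ⟨z, hz, hzR, hzΦ, hzB, hzψ⟩ :
      ∃ z ∈ L, R z ≠ 0 ∧ Φ z ≠ 0 ∧ polar R a₀ z ≠ 0 ∧ ψ z ≠ 0 := by
    by_contra hno
    push Not at hno
    have hsub : L ⊆ (L.filter fun z => R z = 0) ∪ ((L.filter fun z => Φ z = 0) ∪
        ((L.filter fun z => polarBilin R a₀ z = 0) ∪ (L.filter fun z => ψ z = 0))) := fun z hz => by
      simp only [Finset.mem_union, Finset.mem_filter]
      by_cases h1 : R z = 0
      · exact Or.inl ⟨hz, h1⟩
      by_cases h2 : Φ z = 0
      · exact Or.inr (Or.inl ⟨hz, h2⟩)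
      by_cases h3 : polar R a₀ z = 0
      · exact Or.inr (Or.inr (Or.inl ⟨hz, h3⟩))
      exact Or.inr (Or.inr (Or.inr ⟨hz, hno z hz h1 h2 h3⟩))
    have h1 := Finset.card_le_card hsub
    have h2 := Finset.card_union_le (L.filter fun z => R z = 0) ((L.filter fun z => Φ z = 0) ∪
        ((L.filter fun z => polarBilin R a₀ z = 0) ∪ (L.filter fun z => ψ z = 0)))
    have h3 := Finset.card_union_le (L.filter fun z => Φ z = 0)
        ((L.filter fun z => polarBilin R a₀ z = 0) ∪ (L.filter fun z => ψ z = 0))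
    have h3' := Finset.card_union_le (L.filter fun z => polarBilin R a₀ z = 0)
      (L.filter fun z => ψ z = 0)
    have h4 := hL.zeros Φ ⟨a₀, ha₀P, by
      rw [hΦ, ReflectionGen.pol_self, ha₀]
      intro h
      exact mul_ne_zero ha₀φ hc (by linear_combination -h)⟩
    have h5 := hL.zeros_lin (polarBilin R a₀) (hP.exists_polar ha₀P ha0)
    have h6 := hL.zeros_lin ψ hψ
    have h9 := Fintype.one_lt_card (α := F)
    by_cases hs : HasSing R P
    · have := hB.2 hs
      omega
    · have := hs2 hs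
      have := hB.1
      omega
  refine ⟨(refl R hzR).1 a₀, ?_, ((refl R hzR).2 a₀).trans ha₀, ?_, ?_⟩
  · rw [refl_apply]
    exact P.add_mem ha₀P (P.smul_mem _ (hL.mem z hz))
  · rw [refl_apply, map_add, map_smul, smul_eq_mul, polar_comm R z a₀]
    intro h
    refine hzΦ ?_
    rw [hΦ]
    field_simp at h
    linear_combination h
  · rw [refl_apply, map_add, ha₀ψ, map_smul, zero_add, smul_eq_mul, polar_comm R z a₀]
    exact mul_ne_zero (neg_ne_zero.2 (mul_ne_zero (inv_ne_zero hzR) hzB)) hzψ

/-- The values `B(x,a)^2 / R(a)`. -/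
noncomputable def vals (R : QuadraticForm F V) (P : Submodule F V) (x : V) : Finset F := by
  classical
  exact Finset.univ.filter fun z => z ≠ 0 ∧ ∃ a ∈ P, R a ≠ 0 ∧ polar R x a * polar R x a = z * R a

theorem mem_vals {x : V} {z : F} :
    z ∈ vals R P x ↔ z ≠ 0 ∧ ∃ a ∈ P, R a ≠ 0 ∧ polar R x a * polar R x a = z * R a := by
  simp [vals]

theorem vals_card (hP : NPlane R P) {x : V} (hx : x ∈ P) (hx0 : x ≠ 0) :
    Fintype.card F ≤ 2 * (vals R P x).card + 2 ∧
      (¬ HasSing R P → Fintype.card F ≤ 2 * (vals R P x).card) := by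
  classical
  obtain ⟨L, hL⟩ := exists_pts hP
  set T := L.filter fun a => R a ≠ 0 ∧ polar R x a ≠ 0 with hT
  set f : V → F := fun a => polar R x a * polar R x a / R a with hf
  have hsub : T.image f ⊆ vals R P x := fun z hz => by
    obtain ⟨a, ha, rfl⟩ := Finset.mem_image.1 hz
    obtain ⟨haL, haR, hax⟩ := Finset.mem_filter.1 ha
    exact mem_vals.2 ⟨div_ne_zero (mul_ne_zero hax hax) haR, a, hL.mem a haL, haR,
      (div_mul_cancel₀ _ haR).symm⟩
  have hfib : T.card ≤ 2 * (T.image f).card := by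
    refine Finset.card_le_mul_card_image T 2 fun z hz => ?_
    let Φ : QuadraticForm F V := linMulLin (polarBilin R x) (polarBilin R x) - z • R
    have hΦ : ∀ a, Φ a = polar R x a * polar R x a - z * R a := fun a => by
      simp [Φ, linMulLin_apply]
    refine le_trans (Finset.card_le_card fun a ha => ?_) (hL.zeros Φ ?_)
    · obtain ⟨haT, he⟩ := Finset.mem_filter.1 ha
      obtain ⟨haL, haR, hax⟩ := Finset.mem_filter.1 haT
      refine Finset.mem_filter.2 ⟨haL, ?_⟩
      rw [hΦ, ← he, hf, div_mul_cancel₀ _ haR, sub_self]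
    · obtain ⟨a₀, ha₀, rfl⟩ := Finset.mem_image.1 hz
      obtain ⟨ha₀L, ha₀R, ha₀x⟩ := Finset.mem_filter.1 ha₀
      have hz0 : f a₀ ≠ 0 := div_ne_zero (mul_ne_zero ha₀x ha₀x) ha₀R
      by_contra hno
      push Not at hno
      obtain ⟨y, hy, hy0⟩ := Submodule.exists_mem_ne_zero_of_ne_bot
        (show P ⊓ LinearMap.ker (polarBilin R x) ≠ ⊥ from fun e => by
          haveI : FiniteDimensional F P := FiniteDimensional.of_finrank_eq_succ hP.rank
          have h1 := LinearMap.finrank_range_add_finrank_ker ((polarBilin R x).comp P.subtype)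
          have h2 := Submodule.finrank_le (LinearMap.range ((polarBilin R x).comp P.subtype))
          have h3 : LinearMap.ker ((polarBilin R x).comp P.subtype) = ⊥ := eq_bot_iff.2 fun u hu =>
            (Submodule.mem_bot F).2 (Subtype.ext ((Submodule.mem_bot F).1 (e.le ⟨u.2, hu⟩)))
          rw [h3, finrank_bot, hP.rank] at h1
          rw [Module.finrank_self] at h2
          omega)
      refine hy0 (hP.nd y hy.1 fun w hw => ?_)
      have hxy : polar R x y = 0 := hy.2
      have e1 := hno y hy.1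
      have e2 := hno w hw
      have e3 := hno (y + w) (P.add_mem hy.1 hw)
      rw [hΦ] at e1 e2 e3
      rw [polar_add_right, hxy, zero_add, QuadraticMap.map_add R] at e3
      rw [hxy, zero_mul, zero_sub, neg_eq_zero] at e1
      have : f a₀ * polar R y w = 0 := by linear_combination e2 - e3 - e1
      exact (mul_eq_zero.1 this).resolve_left hz0
  have hL0 : L ⊆ T ∪ ((L.filter fun a => R a = 0) ∪ (L.filter fun a => polarBilin R x a = 0)) :=
    fun a ha => by
      simp only [Finset.mem_union, hT, Finset.mem_filter]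
      by_cases h1 : R a = 0
      · exact Or.inr (Or.inl ⟨ha, h1⟩)
      by_cases h2 : polar R x a = 0
      · exact Or.inr (Or.inr ⟨ha, h2⟩)
      exact Or.inl ⟨ha, h1, h2⟩
  have h1 := Finset.card_le_card hL0
  have h2 := Finset.card_union_le T
    ((L.filter fun a => R a = 0) ∪ (L.filter fun a => polarBilin R x a = 0))
  have h3 := Finset.card_union_le (L.filter fun a => R a = 0)
    (L.filter fun a => polarBilin R x a = 0)
  have h4 := hL.zeros_lin (polarBilin R x) (hP.exists_polar hx hx0)
  obtain ⟨h5, h6⟩ := hL.sing_le hP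
  have h7 := hL.card
  have h8 := Finset.card_le_card hsub
  exact ⟨by omega, fun h => by have := h6 h; omega⟩

/-- A field element for the parametrisation. -/
theorem exists_param [DecidableEq F] (h7 : 7 ≤ Fintype.card F) :
    ∃ m : F, m ≠ 0 ∧ m - 1 ≠ 0 ∧ m + 1 ≠ 0 ∧ m * m + 1 ≠ 0 := by
  by_contra hno
  push Not at hno
  have h2 : (Finset.univ.filter fun m : F => m * m = -1).card ≤ 2 := by
    rcases (Finset.univ.filter fun m : F => m * m = -1).eq_empty_or_nonempty with e | ⟨i, hi⟩
    · rw [e]; simp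
    · refine le_trans (Finset.card_le_card (t := {i, -i}) fun m hm => ?_) Finset.card_le_two
      simp only [Finset.mem_filter, Finset.mem_univ, true_and] at hi hm
      rcases mul_self_eq_mul_self_iff.1 (hm.trans hi.symm) with h | h <;> simp [h]
  have hsub : (Finset.univ : Finset F) ⊆ {0, 1, -1} ∪ Finset.univ.filter fun m : F => m * m = -1 := by
    intro m _
    simp only [Finset.mem_union, Finset.mem_insert, Finset.mem_singleton, Finset.mem_filter,
      Finset.mem_univ, true_and]
    by_cases h0 : m = 0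
    · exact Or.inl (Or.inl h0)
    by_cases h1 : m - 1 = 0
    · exact Or.inl (Or.inr (Or.inl (sub_eq_zero.1 h1)))
    by_cases h3 : m + 1 = 0
    · exact Or.inl (Or.inr (Or.inr (eq_neg_of_add_eq_zero_left h3)))
    exact Or.inr (eq_neg_of_add_eq_zero_left (hno m h0 h1 h3))
  have h1 := Finset.card_le_card hsub
  have h3 := Finset.card_union_le ({0, 1, -1} : Finset F) (Finset.univ.filter fun m : F => m * m = -1)
  have h4 := Finset.card_le_three (a := (0 : F)) (b := 1) (c := -1)
  rw [Finset.card_univ] at h1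
  omega

/-- In a plane with singular points some value occurs with both signs. -/
theorem vals_neg (hP : NPlane R P) (h7 : 7 ≤ Fintype.card F) (hs : HasSing R P) {x : V} (hx : x ∈ P)
    (hx0 : x ≠ 0) : ∃ z ∈ vals R P x, -z ∈ vals R P x := by
  classical
  haveI : FiniteDimensional F P := FiniteDimensional.of_finrank_eq_succ hP.rank
  obtain ⟨e, he, he0, hee⟩ := hs
  obtain ⟨f', hf', hef'⟩ := CfsgLib.Eichler.exists_partner (R.comp P.subtype)
    (CfsgLib.MaxSub.Orth.nondeg_comp hP.nd) (e := ⟨e, he⟩) (fun h => he0 (congrArg Subtype.val h)) hee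
  set f := f'.1
  have hf : R f = 0 := hf'
  have hef : polar R e f = 1 := by rw [← hef']; simp [polar, f]
  obtain ⟨α, β, rfl⟩ : ∃ α β : F, α • e + β • f = x := by
    refine ⟨polar R f x, polar R e x, (sub_eq_zero.1 (hP.nd _ (P.sub_mem hx
      (P.add_mem (P.smul_mem _ he) (P.smul_mem _ f'.2))) fun y hy => ?_)).symm⟩
    have hsp : ∀ w, polar R e w = 0 → polar R f w = 0 → w ∈ P → w = 0 := by
      intro w hwe hwf hwP
      refine hP.nd w hwP fun y hy => ?_
      have hli : LinearIndependent F ![(⟨e, he⟩ : P), f'] := by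
        rw [LinearIndependent.pair_iff]
        intro s t hst
        have h : s • e + t • f = 0 := congrArg Subtype.val hst
        have h1 := congrArg (polar R e) h
        have h2 := congrArg (polar R f) h
        simp [polar_add_right, polar_smul_right, ReflectionGen.pol_self, hee, hef, hf,
          polar_comm R f e] at h1 h2
        exact ⟨h2, h1⟩
      have hspan := hli.span_eq_top_of_card_eq_finrank (by simp [hP.rank])
      have hy' : (⟨y, hy⟩ : P) ∈ Submodule.span F (Set.range ![(⟨e, he⟩ : P), f']) := by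
        rw [hspan]; exact Submodule.mem_top
      obtain ⟨c, hc⟩ := (Submodule.mem_span_range_iff_exists_fun F).1 hy'
      have hc' : c 0 • e + c 1 • f = y := by
        have := congrArg Subtype.val hc
        simpa [Fin.sum_univ_two] using this
      rw [← hc', polar_add_right, polar_smul_right, polar_smul_right, polar_comm R w e,
        polar_comm R w f, hwe, hwf]
      simp
    rw [hsp (x - (polar R f x • e + polar R e x • f)) ?_ ?_ (P.sub_mem hx
      (P.add_mem (P.smul_mem _ he) (P.smul_mem _ f'.2))), QuadraticMap.polar_zero_left]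
    · simp [polar_sub_right, polar_add_right, polar_smul_right, ReflectionGen.pol_self, hee, hef]
    · simp [polar_sub_right, polar_add_right, polar_smul_right, ReflectionGen.pol_self, hf,
        polar_comm R f e, hef]
  have hR : ∀ σ : F, R (e + σ • f) = σ := fun σ => by
    rw [QuadraticMap.map_add R, QuadraticMap.map_smul, polar_smul_right, hee, hf, hef]; simp
  have hB : ∀ σ : F, polar R (α • e + β • f) (e + σ • f) = α * σ + β := fun σ => by
    simp [polar_add_left, polar_smul_left, polar_add_right, polar_smul_right, ReflectionGen.pol_self,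
      hee, hf, hef, polar_comm R f e]
    ring
  obtain ⟨σ, ρ, hσ, hρ, hne, hsum⟩ : ∃ σ ρ : F, σ ≠ 0 ∧ ρ ≠ 0 ∧ α * σ + β ≠ 0 ∧
      (α * σ + β) * (α * σ + β) / σ + (α * ρ + β) * (α * ρ + β) / ρ = 0 := by
    by_cases hα : α = 0
    · subst hα
      have hβ : β ≠ 0 := fun h => hx0 (by simp [h])
      exact ⟨1, -1, one_ne_zero, by simp, by simpa using hβ, by field_simp; ring⟩
    by_cases hβ : β = 0
    · subst hβ
      exact ⟨1, -1, one_ne_zero, by simp, by simpa using hα, by field_simp; ring⟩
    obtain ⟨m, hm0, hm1, hmp, hmm⟩ := exists_param h7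
    obtain ⟨s, hs'⟩ : ∃ s : F, s = (1 - m) / (m * (m + 1)) := ⟨_, rfl⟩
    obtain ⟨r, hr⟩ : ∃ r : F, r = m * (m - 1) / (m + 1) := ⟨_, rfl⟩
    have hs0 : s ≠ 0 := hs' ▸ div_ne_zero (sub_ne_zero.2 fun h => hm1 (by rw [← h, sub_self]))
      (mul_ne_zero hm0 hmp)
    have hr0 : r ≠ 0 := hr ▸ div_ne_zero (mul_ne_zero hm0 hm1) hmp
    refine ⟨β / α * s, β / α * r, mul_ne_zero (div_ne_zero hβ hα) hs0,
      mul_ne_zero (div_ne_zero hβ hα) hr0, ?_, ?_⟩
    · rw [show α * (β / α * s) + β = β * (s + 1) by field_simp]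
      refine mul_ne_zero hβ ?_
      rw [hs', div_add_one (mul_ne_zero hm0 hmp)]
      refine div_ne_zero (fun h => hmm ?_) (mul_ne_zero hm0 hmp)
      linear_combination h
    · rw [show α * (β / α * s) + β = β * (s + 1) by field_simp,
        show α * (β / α * r) + β = β * (r + 1) by field_simp]
      have key : (s + 1) * (s + 1) * r + (r + 1) * (r + 1) * s = 0 := by
        rw [hs', hr]; field_simp; ring
      field_simp
      linear_combination (β * α) * key
  refine ⟨(α * σ + β) * (α * σ + β) / σ, mem_vals.2 ⟨div_ne_zero (mul_ne_zero hne hne) hσ,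
    e + σ • f, P.add_mem he (P.smul_mem _ f'.2), by rwa [hR], ?_⟩, ?_⟩
  · rw [hB, hR, div_mul_cancel₀ _ hσ]
  · rw [← eq_neg_of_add_eq_zero_right hsum]
    refine mem_vals.2 ⟨?_, e + ρ • f, P.add_mem he (P.smul_mem _ f'.2), by rwa [hR],
      by rw [hB, hR, div_mul_cancel₀ _ hρ]⟩
    rw [eq_neg_of_add_eq_zero_right hsum]
    exact neg_ne_zero.2 (div_ne_zero (mul_ne_zero hne hne) hσ)

/-- Opposite values in two of three planes. -/
theorem exists_opposite {ι : Type*} {D : ι → Submodule F V} {x : ι → V} {S : Finset ι} (hS : S.card = 3)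
    (hP : ∀ i ∈ S, NPlane R (D i) ∧ Big R (D i) ∧ x i ∈ D i ∧ x i ≠ 0)
    (hsame : ∀ i ∈ S, ∀ j ∈ S, HasSing R (D i) → HasSing R (D j)) :
    ∃ i ∈ S, ∃ j ∈ S, i ≠ j ∧ ∃ z ∈ vals R (D i) (x i), -z ∈ vals R (D j) (x j) := by
  classical
  by_contra hno
  push Not at hno
  obtain ⟨a, b, c, hab, hac, hbc, rfl⟩ := Finset.card_eq_three.1 hS
  set A := vals R (D a) (x a) with hA
  set B := vals R (D b) (x b) with hBdef
  set C := vals R (D c) (x c) with hC
  set U : Finset F := Finset.univ.erase 0 with hU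
  have hUc : U.card + 1 = Fintype.card F := by
    rw [hU, Finset.card_erase_of_mem (Finset.mem_univ _), Finset.card_univ]
    have := Fintype.card_pos (α := F)
    omega
  have hmemU : ∀ {i : ι} {z : F}, z ∈ vals R (D i) (x i) → z ∈ U ∧ -z ∈ U := fun {i z} hz => by
    have := (mem_vals.1 hz).1
    simp [hU, this]
  set nA := A.image Neg.neg with hnA
  have hnAc : nA.card = A.card := Finset.card_image_of_injective _ neg_injective
  have hnAU : nA ⊆ U := fun z hz => by
    obtain ⟨w, hw, rfl⟩ := Finset.mem_image.1 hz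
    exact (hmemU hw).2
  have hd : ∀ {j : ι}, j ∈ ({a, b, c} : Finset ι) → a ≠ j → vals R (D j) (x j) ⊆ U \ nA := by
    intro j hj haj z hz
    refine Finset.mem_sdiff.2 ⟨(hmemU hz).1, fun hmem => ?_⟩
    obtain ⟨w, hw, rfl⟩ := Finset.mem_image.1 hmem
    exact hno a (by simp) j hj haj w hw hz
  have hdiff : (U \ nA).card + A.card = U.card := by
    rw [← hnAc, Finset.card_sdiff_of_subset hnAU]
    have := Finset.card_le_card hnAU
    omega
  have hBs := hd (j := b) (by simp) hab
  have hCs := hd (j := c) (by simp) hac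
  have hBc := Finset.card_le_card hBs
  have hCc := Finset.card_le_card hCs
  obtain ⟨pa, ga, ma, na⟩ := hP a (by simp)
  obtain ⟨pb, gb, mb, nb⟩ := hP b (by simp)
  obtain ⟨pc, gc, mc, nc⟩ := hP c (by simp)
  obtain ⟨la, la'⟩ := vals_card pa ma na
  obtain ⟨lb, lb'⟩ := vals_card pb mb nb
  obtain ⟨lc, lc'⟩ := vals_card pc mc nc
  rw [← hA] at la la'
  rw [← hBdef] at lb lb' hBc hBs
  rw [← hC] at lc lc' hCc hCs
  by_cases h2 : (2 : F) = 0
  · -- the three sets are disjoint
    have hneg : ∀ z : F, -z = z := fun z => by linear_combination (-z) * h2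
    have hdbc : Disjoint B C := Finset.disjoint_left.2 fun z hzB hzC =>
      hno b (by simp) c (by simp) hbc z hzB (by rw [hneg]; exact hzC)
    have h := Finset.card_le_card (Finset.union_subset hBs hCs)
    rw [Finset.card_union_of_disjoint hdbc] at h
    have := Fintype.one_lt_card (α := F)
    by_cases hs : HasSing R (D a)
    · have := ga.2 hs
      omega
    · have := la' hs
      have := lb' (fun h => hs (hsame b (by simp) a (by simp) h))
      have := lc' (fun h => hs (hsame c (by simp) a (by simp) h))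
      omega
  have hodd : Fintype.card F % 2 = 1 := FiniteField.odd_card_of_char_ne_two fun hc => by
    haveI := ringChar.of_eq hc
    exact h2 CharTwo.two_eq_zero
  by_cases hs : HasSing R (D a)
  swap
  · have := la' hs
    have := lb' (fun h => hs (hsame b (by simp) a (by simp) h))
    omega
  have eB : B = U \ nA := Finset.eq_of_subset_of_card_le hBs (by omega)
  have eC : C = U \ nA := Finset.eq_of_subset_of_card_le hCs (by omega)
  obtain ⟨z, hz, hz'⟩ := vals_neg pb (gb.2 (hsame a (by simp) b (by simp) hs))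
    (hsame a (by simp) b (by simp) hs) mb nb
  exact hno b (by simp) c (by simp) hbc z hz (by rw [← hC, eC, ← eB]; exact hz')

/-- A subring of a finite field of large order is the field. -/
theorem subring_top (S : Subring F) (h : Fintype.card F < Nat.card S ^ 2) : S = ⊤ := by
  classical
  haveI : Fintype S := Fintype.ofFinite S
  letI : Field S := Fintype.fieldOfDomain S
  have hc : Fintype.card F = Fintype.card S ^ Module.finrank S F := Module.card_eq_pow_finrank
  rw [Nat.card_eq_fintype_card] at h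
  rw [hc] at h
  have hlt : Module.finrank S F < 2 := (Nat.pow_lt_pow_iff_right Fintype.one_lt_card).1 h
  have hpos : 0 < Module.finrank S F := Module.finrank_pos
  have h1 : Module.finrank S F = 1 := by omega
  rw [h1, pow_one] at hc
  refine (Subring.eq_top_iff' S).2 fun x => ?_
  obtain ⟨y, rfl⟩ := ((Fintype.bijective_iff_injective_and_card (fun y : S => (y : F))).2
    ⟨Subtype.val_injective, hc.symm⟩).2 x
  exact y.2

/-- An additive subgroup of a plane stable under all reflections is the plane or trivial. -/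
theorem top_of_refl (hP : NPlane R P) (hB : Big R P) (A : AddSubgroup V)
    (hA : ∀ a ∈ P, ∀ ha : R a ≠ 0, ∀ x ∈ A, x ∈ P → (refl R ha).1 x ∈ A) {x₀ : V} (hx₀ : x₀ ∈ A)
    (hx₀P : x₀ ∈ P) (hx₀0 : x₀ ≠ 0) : ∀ x ∈ P, x ∈ A := by
  classical
  have hstep : ∀ a ∈ P, R a ≠ 0 → ∀ x ∈ A, x ∈ P → ((R a)⁻¹ * polar R a x) • a ∈ A := by
    intro a ha haR x hx hxP
    have h := A.sub_mem hx (hA a ha haR x hx hxP)
    rwa [refl_apply, sub_add_cancel_left, ← neg_smul, neg_neg] at h
  have hline : ∀ a ∈ P, R a ≠ 0 → ∀ l : F, l ≠ 0 → l • a ∈ A → ∀ s : F, s • a ∈ A := by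
    intro a ha haR l hl hla
    let L : Subring F :=
      { carrier := {μ | ∀ s : F, s • a ∈ A → (μ * s) • a ∈ A}
        mul_mem' := fun {μ ν} hμ hν s hs => by rw [mul_assoc]; exact hμ _ (hν s hs)
        one_mem' := fun s hs => by rwa [one_mul]
        add_mem' := fun {μ ν} hμ hν s hs => by
          rw [add_mul, add_smul]; exact A.add_mem (hμ s hs) (hν s hs)
        zero_mem' := fun s _ => by rw [zero_mul, zero_smul]; exact A.zero_mem
        neg_mem' := fun {μ} hμ s hs => by rw [neg_mul, neg_smul]; exact A.neg_mem (hμ s hs) }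
    have hvals : ∀ z ∈ vals R P a, z / R a ∈ L := by
      intro z hz s hs
      obtain ⟨-, b, hb, hbR, hzb⟩ := mem_vals.1 hz
      have h1 := hstep b hb hbR _ hs (P.smul_mem s ha)
      have h2 := hstep a ha haR _ h1 (P.smul_mem _ hb)
      convert h2 using 2
      rw [polar_smul_right, polar_smul_right, polar_comm R b a, smul_eq_mul, smul_eq_mul]
      field_simp
      linear_combination -s * hzb
    have hsub : insert 0 ((vals R P a).image (· / R a)) ⊆ Finset.univ.filter (· ∈ L) := by
      intro μ hμ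
      refine Finset.mem_filter.2 ⟨Finset.mem_univ _, ?_⟩
      rcases Finset.mem_insert.1 hμ with rfl | h
      · exact L.zero_mem
      · obtain ⟨z, hz, rfl⟩ := Finset.mem_image.1 h
        exact hvals z hz
    have hcard := Finset.card_le_card hsub
    rw [Finset.card_insert_of_notMem (fun h => by
      obtain ⟨z, hz, hz0⟩ := Finset.mem_image.1 h
      exact (div_ne_zero (mem_vals.1 hz).1 haR) hz0),
      Finset.card_image_of_injective _ (fun z w h => (div_left_inj' haR).1 h)] at hcard
    have hLc : Nat.card L = (Finset.univ.filter (· ∈ L)).card := by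
      rw [Nat.card_eq_fintype_card]
      exact Fintype.card_subtype _
    have ha0 : a ≠ 0 := fun h => haR (by rw [h, QuadraticMap.map_zero])
    obtain ⟨v1, v2⟩ := vals_card hP ha ha0
    have hbig : Fintype.card F < Nat.card L ^ 2 := by
      rw [hLc]
      have hsq := Nat.pow_le_pow_left hcard 2
      refine lt_of_lt_of_le ?_ hsq
      have h1 := Fintype.one_lt_card (α := F)
      by_cases hs : HasSing R P
      · have := hB.2 hs
        nlinarith
      · have := v2 hs
        nlinarith
    intro s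
    have hμ : s / l ∈ L := by rw [subring_top L hbig]; exact Subring.mem_top _
    have := hμ l hla
    rwa [div_mul_cancel₀ _ hl] at this
  obtain ⟨a, ha, haR, hax⟩ := exists_class hP hB (polarBilin R x₀) (hP.exists_polar hx₀P hx₀0)
    (one_ne_zero (α := F))
  have haR' : R a ≠ 0 := by rw [haR]; exact one_ne_zero
  have hax' : polar R a x₀ ≠ 0 := by rw [polar_comm]; exact hax
  have hfa := hline a ha haR' _ (mul_ne_zero (inv_ne_zero haR') hax')
    (hstep a ha haR' x₀ hx₀ hx₀P)
  obtain ⟨b, hb, hbR, hba, hbn⟩ : ∃ b ∈ P, R b ≠ 0 ∧ polar R b a ≠ 0 ∧ ∀ t : F, b ≠ t • a := by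
    obtain ⟨L, hL⟩ := exists_pts hP
    by_contra hno
    push Not at hno
    have ha0 : a ≠ 0 := fun h => haR' (by rw [h, QuadraticMap.map_zero])
    have hsub : L ⊆ (L.filter fun z => R z = 0) ∪ ((L.filter fun z => polarBilin R a z = 0) ∪
        (L.filter fun z => ∃ t : F, z = t • a)) := fun z hz => by
      simp only [Finset.mem_union, Finset.mem_filter]
      by_cases h1 : R z = 0
      · exact Or.inl ⟨hz, h1⟩
      by_cases h2 : polar R a z = 0
      · exact Or.inr (Or.inl ⟨hz, h2⟩)
      exact Or.inr (Or.inr ⟨hz, hno z (hL.mem z hz) h1 (by rwa [polar_comm])⟩)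
    have h1 := Finset.card_le_card hsub
    have h2 := Finset.card_union_le (L.filter fun z => R z = 0)
      ((L.filter fun z => polarBilin R a z = 0) ∪ (L.filter fun z => ∃ t : F, z = t • a))
    have h3 := Finset.card_union_le (L.filter fun z => polarBilin R a z = 0)
      (L.filter fun z => ∃ t : F, z = t • a)
    have h4 := hL.zeros_lin (polarBilin R a) (hP.exists_polar ha ha0)
    have h5 : (L.filter fun z => ∃ t : F, z = t • a).card ≤ 1 := by
      refine Finset.card_le_one.2 fun z hz w hw => ?_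
      by_contra hzw
      obtain ⟨hz, t, rfl⟩ := Finset.mem_filter.1 hz
      obtain ⟨hw, t', rfl⟩ := Finset.mem_filter.1 hw
      by_cases ht' : t' = 0
      · exact hL.ne_zero hw (by rw [ht', zero_smul])
      refine hL.indep _ hz _ hw hzw (t / t') ?_
      rw [smul_smul, div_mul_cancel₀ _ ht']
    obtain ⟨h6, h7⟩ := hL.sing_le hP
    have h8 := hL.card
    have h9 := Fintype.one_lt_card (α := F)
    by_cases hs : HasSing R P
    · have := hB.2 hs
      omega
    · have := h7 hs
      have := hB.1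
      omega
  have hfb := hline b hb hbR _ (mul_ne_zero (inv_ne_zero hbR) hba)
    (hstep b hb hbR a (by simpa using hfa 1) ha)
  intro x hx
  have hli : LinearIndependent F ![(⟨a, ha⟩ : P), ⟨b, hb⟩] := by
    rw [LinearIndependent.pair_iff]
    intro s t hst
    have h : s • a + t • b = 0 := congrArg Subtype.val hst
    have ht : t = 0 := by
      by_contra ht
      refine hbn (-s / t) ?_
      rw [neg_div, neg_smul, div_eq_inv_mul, mul_smul, eq_neg_of_add_eq_zero_left h, smul_neg,
        smul_smul, inv_mul_cancel₀ ht, one_smul, neg_neg]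
    rw [ht, zero_smul, add_zero, smul_eq_zero] at h
    exact ⟨h.resolve_right fun e => haR' (by rw [e, QuadraticMap.map_zero]), ht⟩
  have hspan := hli.span_eq_top_of_card_eq_finrank (by simp [hP.rank])
  have hx' : (⟨x, hx⟩ : P) ∈ Submodule.span F (Set.range ![(⟨a, ha⟩ : P), ⟨b, hb⟩]) := by
    rw [hspan]; exact Submodule.mem_top
  obtain ⟨c, hc⟩ := (Submodule.mem_span_range_iff_exists_fun F).1 hx'
  have hc' : c 0 • a + c 1 • b = x := by
    have := congrArg Subtype.val hc
    simpa [Fin.sum_univ_two] using this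
  rw [← hc']
  exact A.add_mem (hfa _) (hfb _)

end CfsgLib.MaxSub.OrthBlocks
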