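import Cfsg.Agent.Lib.MaxSub.WreathMaximalOrth
import Cfsg.Agent.Lib.MaxSub.OrthBlocks.Plane

/-!
Overgroups of the stabiliser of an orthogonal decomposition: pairs of reflections and their classes.
-/

set_option autoImplicit false
set_option maxHeartbeats 400000
set_option linter.unusedSectionVars false

namespace CfsgLib.MaxSub.OrthBlocks

open Module Cfsg Cfsg.Geo
open CfsgLib.Eichler (Sieg IsEich exists_eich)
open CfsgLib.WittExtension (quadIso)
open CfsgLib.SpinorNorm (refl refl_apply refl_inv refl_mul_self)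
open CfsgLib.MaxSub.Orth (InA)
open QuadraticMap (polar polarBilin)

variable {F : Type*} [Field F] [Fintype F] {ι : Type} [Fintype ι] [DecidableEq ι] {t k : ℕ}
  {R : QuadraticForm F (ι → F)} {D : Fin t → Submodule F (ι → F)}

local notation "V" => (ι → F)

/-- The setting. -/
structure BD (R : QuadraticForm F (ι → F)) (k : ℕ) (D : Fin t → Submodule F (ι → F)) : Prop where
  dim : 5 ≤ Fintype.card ι
  nd : (polarBilin R).Nondegenerate
  two_le : 2 ≤ k
  dec : IsOrthogonalMDecomposition (⇑R) k D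

theorem BD.hdim (O : BD R k D) : 5 ≤ finrank F V := by
  rw [Module.finrank_fintype_fun_eq_card]; exact O.dim

theorem block_nd (O : BD R k D) (i : Fin t) :
    ∀ x ∈ D i, (∀ y ∈ D i, polar R x y = 0) → x = 0 := fun x hx h => by
  by_contra hx0
  obtain ⟨-, y, hy, hne⟩ := O.dec.decomp.nondegenerate i x hx hx0
  exact hne (h y hy)

theorem block_perp (O : BD R k D) {i j : Fin t} (hij : i ≠ j) {x y : V} (hx : x ∈ D i)
    (hy : y ∈ D j) : polar R x y = 0 :=
  O.dec.decomp.orthogonal i j hij x hx y hy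

theorem BD.rank (O : BD R k D) (i : Fin t) : finrank F (D i) = k :=
  O.dec.decomp.decomp.finrank_eq i

/-- The component in a block. -/
noncomputable def cp (O : BD R k D) (x : V) : Fin t → V :=
  (Decomp.exists_comp O.dec.decomp.decomp x).choose

theorem cp_mem (O : BD R k D) (x : V) (i : Fin t) : cp O x i ∈ D i :=
  (Decomp.exists_comp O.dec.decomp.decomp x).choose_spec.1 i

theorem sum_cp (O : BD R k D) (x : V) : ∑ i, cp O x i = x :=
  (Decomp.exists_comp O.dec.decomp.decomp x).choose_spec.2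

theorem cp_polar (O : BD R k D) (x : V) {i : Fin t} {y : V} (hy : y ∈ D i) :
    polar R (cp O x i) y = polar R x y := by
  conv_rhs => rw [← sum_cp O x, ← QuadraticMap.polarBilin_apply_apply, map_sum, LinearMap.sum_apply]
  exact (Finset.sum_eq_single i (fun l _ hl => block_perp O hl (cp_mem O x l) hy)
    (fun h => absurd (Finset.mem_univ i) h)).symm

theorem cp_unique (O : BD R k D) {x c : V} {i : Fin t} (hc : c ∈ D i)
    (h : ∀ y ∈ D i, polar R c y = polar R x y) : cp O x i = c :=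
  sub_eq_zero.1 (block_nd O i _ ((D i).sub_mem (cp_mem O x i) hc) fun y hy => by
    rw [QuadraticMap.polar_sub_left, cp_polar O x hy, h y hy, sub_self])

theorem cp_self (O : BD R k D) {x : V} {i : Fin t} (hx : x ∈ D i) : cp O x i = x :=
  cp_unique O hx fun _ _ => rfl

theorem cp_other (O : BD R k D) {x : V} {i j : Fin t} (hx : x ∈ D i) (hij : i ≠ j) : cp O x j = 0 :=
  cp_unique O (zero_mem _) fun y hy => by
    rw [QuadraticMap.polar_zero_left, block_perp O hij hx hy]

theorem cp_add (O : BD R k D) (x y : V) (i : Fin t) : cp O (x + y) i = cp O x i + cp O y i :=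
  cp_unique O ((D i).add_mem (cp_mem O x i) (cp_mem O y i)) fun z hz => by
    rw [QuadraticMap.polar_add_left, cp_polar O x hz, cp_polar O y hz, ← QuadraticMap.polar_add_left]

theorem cp_smul (O : BD R k D) (s : F) (x : V) (i : Fin t) : cp O (s • x) i = s • cp O x i :=
  cp_unique O ((D i).smul_mem s (cp_mem O x i)) fun z hz => by
    rw [QuadraticMap.polar_smul_left, cp_polar O x hz, ← QuadraticMap.polar_smul_left]

theorem cp_sub (O : BD R k D) (x y : V) (i : Fin t) : cp O (x - y) i = cp O x i - cp O y i := by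
  rw [sub_eq_add_neg, ← neg_one_smul F y, cp_add, cp_smul, neg_one_smul, ← sub_eq_add_neg]

theorem eq_cp (O : BD R k D) {x : V} {j : Fin t} (h : ∀ l, l ≠ j → cp O x l = 0) : x = cp O x j := by
  conv_lhs => rw [← sum_cp O x]
  exact Finset.sum_eq_single j (fun l _ hl => h l hl) (fun h => absurd (Finset.mem_univ j) h)

theorem mem_of_cp (O : BD R k D) {x : V} {j : Fin t} (h : ∀ l, l ≠ j → cp O x l = 0) : x ∈ D j := by
  have h' := cp_mem O x j
  rwa [← eq_cp O h] at h'

theorem cp_zero_of_two (O : BD R k D) {x : V} {p q l : Fin t} (hx : x ∈ D p ⊔ D q) (hp : l ≠ p)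
    (hq : l ≠ q) : cp O x l = 0 := by
  obtain ⟨a, ha, b, hb, rfl⟩ := Submodule.mem_sup.1 hx
  rw [cp_add, cp_other O ha hp.symm, cp_other O hb hq.symm, add_zero]

theorem polar_cp (O : BD R k D) (x y : V) : polar R x y = ∑ i, polar R (cp O x i) (cp O y i) := by
  conv_lhs => rw [← sum_cp O y, ← QuadraticMap.polarBilin_apply_apply, map_sum]
  exact Finset.sum_congr rfl fun i _ => (cp_polar O x (cp_mem O y i)).symm

theorem map_cp (O : BD R k D) (x : V) : R x = ∑ i, R (cp O x i) := by
  conv_lhs => rw [← sum_cp O x]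
  have h := Orth.map_sum_orth (Q := R) (w := cp O x)
    (fun a e hae => block_perp O hae (cp_mem O x a) (cp_mem O x e)) (fun _ => 1) Finset.univ
  simpa using h

/-- A vector of a single block. -/
def Blk (D : Fin t → Submodule F (ι → F)) (u : ι → F) : Prop := ∃ i, u ∈ D i

theorem not_blk (O : BD R k D) {u : V} {i j : Fin t} (hij : i ≠ j) (hi : cp O u i ≠ 0)
    (hj : cp O u j ≠ 0) : ¬ Blk D u := by
  rintro ⟨l, hl⟩
  by_cases h : l = i
  · exact hj (cp_other O hl (h ▸ hij))
  · exact hi (cp_other O hl h)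

theorem two_of_not_blk (O : BD R k D) {u : V} (hu : ¬ Blk D u) :
    ∃ i j, i ≠ j ∧ cp O u i ≠ 0 ∧ cp O u j ≠ 0 := by
  by_contra hno
  push Not at hno
  have h2 := O.dec.decomp.decomp.two_le
  by_cases h : ∃ i, cp O u i ≠ 0
  · obtain ⟨i, hi⟩ := h
    exact hu ⟨i, mem_of_cp O fun l hl => hno i l (Ne.symm hl) hi⟩
  · push Not at h
    exact hu ⟨⟨0, by omega⟩, mem_of_cp O fun l _ => h l⟩

/-- An element permuting the blocks. -/
def Mono (D : Fin t → Submodule F (ι → F)) (g : quadIso R) : Prop := ∀ i, ∃ j, ∀ x ∈ D i, g.1 x ∈ D j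

/-- The hypothesis on an overgroup. -/
def Ov (R : QuadraticForm F (ι → F)) (D : Fin t → Submodule F (ι → F))
    (K : Subgroup (quadIso R)) : Prop :=
  ∀ g : quadIso R, g ∈ Subgroup.closure (Sieg R) → Mono D g → g ∈ K

/-- The reflection in `v`, or one. -/
noncomputable def rr (R : QuadraticForm F (ι → F)) (v : ι → F) : quadIso R := by
  classical exact if h : R v = 0 then 1 else refl R h

theorem rr_eq {v : V} (h : R v ≠ 0) : rr R v = refl R h := by
  classical exact dif_neg h

theorem rr_apply {v : V} (h : R v ≠ 0) (x : V) :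
    (rr R v).1 x = x + (-((R v)⁻¹ * polar R v x)) • v := by rw [rr_eq h, refl_apply]

theorem rr_perp {v x : V} (hvx : polar R v x = 0) : (rr R v).1 x = x := by
  by_cases h : R v = 0
  · have h1 : rr R v = 1 := by classical exact dif_pos h
    rw [h1]; rfl
  · rw [rr_apply h, hvx]; simp

theorem rr_sq (v : V) : rr R v * rr R v = 1 := by
  by_cases h : R v = 0
  · have h1 : rr R v = 1 := by classical exact dif_pos h
    rw [h1, mul_one]
  · rw [rr_eq h, refl_mul_self]

theorem rr_inv (v : V) : (rr R v)⁻¹ = rr R v := inv_eq_of_mul_eq_one_right (rr_sq v)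

theorem rr_conj (g : quadIso R) (v : V) : g * rr R v * g⁻¹ = rr R (g.1 v) := by
  by_cases h : R v = 0
  · have h1 : rr R v = 1 := by classical exact dif_pos h
    have h2 : rr R (g.1 v) = 1 := by classical exact dif_pos ((g.2 v).trans h)
    rw [h1, h2]; group
  · rw [rr_eq h, rr_eq (fun e => h ((g.2 v).symm.trans e)), Eichler.conj_refl]

theorem rr_smul {v : V} (h : R v ≠ 0) {s : F} (hs : s ≠ 0) : rr R (s • v) = rr R v := by
  rw [rr_eq h, rr_eq (by rw [QuadraticMap.map_smul, smul_eq_mul]; exact mul_ne_zero (mul_ne_zero hs hs) h),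
    Eichler.refl_smul]
  exact hs

theorem rr_maps (O : BD R k D) {j : Fin t} {w : V} (hwD : w ∈ D j) :
    ∀ i, ∀ x ∈ D i, (rr R w).1 x ∈ D i := fun i x hx => by
  by_cases hij : j = i
  · subst hij
    by_cases h : R w = 0
    · have h1 : rr R w = 1 := by classical exact dif_pos h
      rw [h1]; exact hx
    · rw [rr_apply h]
      exact (D j).add_mem hx ((D j).smul_mem _ hwD)
  · rwa [rr_perp (block_perp O hij hwD hx)]

/-- A pair of reflections of vectors with values in one class lying in the overgroup. -/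
def Pr (K : Subgroup (quadIso R)) (u w : ι → F) : Prop :=
  R u ≠ 0 ∧ R w ≠ 0 ∧ IsSquare (R u * R w) ∧ rr R u * rr R w ∈ K

variable {K : Subgroup (quadIso R)}

theorem pr_mem_omega (O : BD R k D) {u w : V} (hu : R u ≠ 0) (hw : R w ≠ 0)
    (h : IsSquare (R u * R w)) : rr R u * rr R w ∈ Subgroup.closure (Sieg R) := by
  obtain ⟨s, hs⟩ := h
  have hs0 : s ≠ 0 := fun e => mul_ne_zero hu hw (by rw [hs, e, zero_mul])
  have hval : R ((s / R w) • w) = R u := by
    rw [QuadraticMap.map_smul, smul_eq_mul]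
    field_simp
    linear_combination -hs
  have h1 := Orth.refl_mul_mem O.nd O.hdim hu (v := (s / R w) • w) (by rw [hval]; exact hu) hval.symm
  rwa [← rr_eq, ← rr_eq, rr_smul hw (div_ne_zero hs0 hw)] at h1

theorem pr_block (O : BD R k D) (hK : Ov R D K) {u w : V} {i j : Fin t} (hi : u ∈ D i) (hj : w ∈ D j)
    (hu : R u ≠ 0) (hw : R w ≠ 0) (h : IsSquare (R u * R w)) : Pr K u w :=
  ⟨hu, hw, h, hK _ (pr_mem_omega O hu hw h) fun l => ⟨l, fun x hx =>
    rr_maps O hi l _ (rr_maps O hj l x hx)⟩⟩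

theorem Pr.symm {u w : V} (h : Pr K u w) : Pr K w u := by
  refine ⟨h.2.1, h.1, by rw [mul_comm]; exact h.2.2.1, ?_⟩
  have := inv_mem h.2.2.2
  rwa [mul_inv_rev, rr_inv, rr_inv] at this

theorem Pr.trans {u v w : V} (h : Pr K u v) (h' : Pr K v w) : Pr K u w := by
  refine ⟨h.1, h'.2.1, ?_, ?_⟩
  · obtain ⟨a, ha⟩ := h.2.2.1
    obtain ⟨b, hb⟩ := h'.2.2.1
    refine ⟨a * b / R v, ?_⟩
    field_simp [h.2.1]
    linear_combination (R v * R w) * ha + a * a * hb
  · have := mul_mem h.2.2.2 h'.2.2.2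
    rwa [show rr R u * rr R v * (rr R v * rr R w) = rr R u * (rr R v * rr R v) * rr R w by group,
      rr_sq, mul_one] at this

theorem Pr.map {u w : V} (h : Pr K u w) {g : quadIso R} (hg : g ∈ K) : Pr K (g.1 u) (g.1 w) := by
  refine ⟨by rw [g.2]; exact h.1, by rw [g.2]; exact h.2.1, by rw [g.2, g.2]; exact h.2.2.1, ?_⟩
  rw [← rr_conj g u, ← rr_conj g w]
  have := mul_mem (mul_mem hg h.2.2.2) (inv_mem hg)
  rwa [show g * rr R u * g⁻¹ * (g * rr R w * g⁻¹) = g * (rr R u * rr R w) * g⁻¹ by group]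

/-- The class of a vector is closed under its reflections. -/
theorem Pr.reflect {a x y : V} (hx : Pr K a x) (hy : Pr K a y) : Pr K a ((rr R x).1 y) := by
  refine ⟨hx.1, by rw [(rr R x).2]; exact hy.2.1, by rw [(rr R x).2]; exact hy.2.2.1, ?_⟩
  have := mul_mem (mul_mem hx.2.2.2 hy.symm.2.2.2) hx.2.2.2
  rw [← rr_conj (rr R x) y, rr_inv]
  rwa [show rr R a * rr R x * (rr R y * rr R a) * (rr R a * rr R x) =
    rr R a * (rr R x * rr R y * (rr R a * rr R a) * rr R x) by group, rr_sq, mul_one] at this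

/-- A block vector related to a vector of several blocks. -/
def II (D : Fin t → Submodule F (ι → F)) (K : Subgroup (quadIso R)) : Prop :=
  ∃ a u, Blk D a ∧ ¬ Blk D u ∧ Pr K a u

/-- An element moving the blocks moves a block vector of each class. -/
def Conn (R : QuadraticForm F (ι → F)) (D : Fin t → Submodule F (ι → F)) : Prop :=
  ∀ g : quadIso R, ¬ Mono D g → ∀ c : F, c ≠ 0 →
    ∃ i, ∃ a ∈ D i, R a ≠ 0 ∧ IsSquare (c * R a) ∧ ¬ Blk D (g.1 a)

/-- An element moving the blocks and fixing a block vector. -/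
theorem ii_of_fix (O : BD R k D) (hK : Ov R D K) (hC : Conn R D) {y : quadIso R} (hy : y ∈ K)
    (hm : ¬ Mono D y) {b : V} {j : Fin t} (hb : b ∈ D j) (hb0 : R b ≠ 0) (hfix : y.1 b = b) :
    II D K := by
  obtain ⟨i, a, ha, ha0, hs, hna⟩ := hC y hm (R b) hb0
  have h := (pr_block O hK hb ha hb0 ha0 hs).map hy
  rw [hfix] at h
  exact ⟨b, y.1 a, ⟨j, hb⟩, hna, h⟩

/-- The difference of a product of two reflections lies in their span. -/
theorem pair_sub_mem {v w : V} (hv : R v ≠ 0) (hw : R w ≠ 0) (x : V) :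
    (rr R v * rr R w).1 x - x ∈ Submodule.span F ({v, w} : Set V) := by
  refine Submodule.mem_span_pair.2 ⟨-((R v)⁻¹ * polar R v ((rr R w).1 x)), -((R w)⁻¹ * polar R w x), ?_⟩
  show _ = (rr R v).1 ((rr R w).1 x) - x
  rw [rr_apply hv, rr_apply hw x]
  module

theorem exists_sep (O : BD R k D) {v w : V} (hvw : ∀ s : F, v ≠ s • w) :
    ∃ x, polar R w x = 0 ∧ polar R v x ≠ 0 := by
  by_contra h
  push Not at h
  by_cases hw : ∀ x, polar R w x = 0
  · exact hvw 0 (by rw [zero_smul]; exact O.nd.1 v fun y => h y (hw y))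
  push Not at hw
  obtain ⟨z, hz⟩ := hw
  refine hvw (polar R v z / polar R w z) (sub_eq_zero.1 (O.nd.1 _ fun y => ?_))
  show polar R (v - (polar R v z / polar R w z) • w) y = 0
  have h1 := h (y - (polar R w y / polar R w z) • z) (by
    rw [QuadraticMap.polar_sub_right, QuadraticMap.polar_smul_right, smul_eq_mul,
      div_mul_cancel₀ _ hz, sub_self])
  rw [QuadraticMap.polar_sub_right, QuadraticMap.polar_smul_right, smul_eq_mul] at h1
  rw [QuadraticMap.polar_sub_left, QuadraticMap.polar_smul_left, smul_eq_mul]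
  linear_combination h1

theorem pair_range (O : BD R k D) {v w : V} (hv : R v ≠ 0) (hw : R w ≠ 0)
    (hvw : ∀ s : F, v ≠ s • w) :
    (∃ x, ∃ s : F, s ≠ 0 ∧ (rr R v * rr R w).1 x - x = s • v) ∧
      ∃ x, ∃ s s' : F, s ≠ 0 ∧ (rr R v * rr R w).1 x - x = s • w + s' • v := by
  have hwv : ∀ s : F, w ≠ s • v := fun s e => hvw s⁻¹ (by
    rw [e, smul_smul, inv_mul_cancel₀ (fun h => hw (by rw [e, h, zero_smul, QuadraticMap.map_zero])),
      one_smul])
  constructor
  · obtain ⟨x, h1, h2⟩ := exists_sep O hvw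
    refine ⟨x, -((R v)⁻¹ * polar R v x), neg_ne_zero.2 (mul_ne_zero (inv_ne_zero hv) h2), ?_⟩
    show (rr R v).1 ((rr R w).1 x) - x = _
    rw [rr_perp h1, rr_apply hv, add_sub_cancel_left]
  · obtain ⟨x, -, h2⟩ := exists_sep O hwv
    refine ⟨x, -((R w)⁻¹ * polar R w x), -((R v)⁻¹ * polar R v ((rr R w).1 x)),
      neg_ne_zero.2 (mul_ne_zero (inv_ne_zero hw) h2), ?_⟩
    show (rr R v).1 ((rr R w).1 x) - x = _
    rw [rr_apply hv, rr_apply hw x]
    module

/-- Two reflections permuting the blocks live in two blocks. -/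
theorem pair_mono (O : BD R k D) {v w : V} (hv : R v ≠ 0) (hw : R w ≠ 0) (hvw : ∀ s : F, v ≠ s • w)
    (hm : Mono D (rr R v * rr R w)) :
    ∃ p q, v ∈ D p ⊔ D q ∧ w ∈ D p ⊔ D q ∧
      (2 < k → p = q ∨ ∃ a ∈ D p, ∃ b ∈ D q, p ≠ q ∧
        v ∈ Submodule.span F ({a, b} : Set V) ∧ w ∈ Submodule.span F ({a, b} : Set V)) := by
  classical
  obtain ⟨y, hy⟩ : ∃ y, y = rr R v * rr R w := ⟨_, rfl⟩
  obtain ⟨⟨x₁, s₁, hs₁, e₁⟩, x₂, s₂, s₂', hs₂, e₂⟩ := pair_range O hv hw hvw
  have hU : ∀ x, y.1 x - x ∈ Submodule.span F ({v, w} : Set V) := hy ▸ pair_sub_mem hv hw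
  rw [← hy] at e₁ e₂ hm
  choose σ hσ using hm
  -- every difference lies in the span of a pair
  obtain ⟨p, q, hpq⟩ : ∃ p q, (∀ x, y.1 x - x ∈ D p ⊔ D q) ∧ (2 < k → p = q ∨ ∃ a ∈ D p, ∃ b ∈ D q,
      p ≠ q ∧ ∀ x, y.1 x - x ∈ Submodule.span F ({a, b} : Set V)) := by
    have hlin : ∀ x, y.1 x - x = ∑ i, (y.1 (cp O x i) - cp O x i) := fun x => by
      conv_lhs => rw [← sum_cp O x, map_sum]
      rw [Finset.sum_sub_distrib]
    haveI : FiniteDimensional F V := inferInstance
    have hspan2 : finrank F (Submodule.span F ({v, w} : Set V)) ≤ 2 := by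
      have h := finrank_span_le_card (R := F) ({v, w} : Set V)
      have h' : ({v, w} : Set V).toFinset.card ≤ 2 := by simp; exact Finset.card_le_two
      omega
    by_cases hswap : ∃ i, σ i ≠ i
    · obtain ⟨i, hi⟩ := hswap
      have hinj : ∀ x ∈ D i, y.1 x - x = 0 → x = 0 := fun x hx h0 =>
        Submodule.disjoint_def.1 (O.dec.decomp.decomp.indep.pairwiseDisjoint (Ne.symm hi)) x hx
          (sub_eq_zero.1 h0 ▸ hσ i x hx)
      let f : D i →ₗ[F] V := ((y.1 : V →ₗ[F] V) - LinearMap.id).comp (D i).subtype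
      have hf : ∀ x : D i, f x = y.1 x - x := fun x => rfl
      have hker : LinearMap.ker f = ⊥ := eq_bot_iff.2 fun x hx => (Submodule.mem_bot F).2
        (Subtype.ext (hinj x x.2 hx))
      have hr := LinearMap.finrank_range_add_finrank_ker f
      rw [hker, finrank_bot, O.rank] at hr
      have hle : LinearMap.range f ≤ Submodule.span F ({v, w} : Set V) := by
        rintro _ ⟨x, rfl⟩; exact hU _
      have hk := O.two_le
      have hle' := Submodule.finrank_mono hle
      have heq : LinearMap.range f = Submodule.span F ({v, w} : Set V) :=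
        Submodule.eq_of_le_of_finrank_le hle (by omega)
      refine ⟨i, σ i, fun x => ?_, fun h2 => by omega⟩
      obtain ⟨z, hz⟩ : y.1 x - x ∈ LinearMap.range f := heq ▸ hU x
      rw [← hz, hf]
      exact (D i ⊔ D (σ i)).sub_mem (Submodule.mem_sup_right (hσ i z z.2))
        (Submodule.mem_sup_left z.2)
    push Not at hswap
    have hin : ∀ i, ∀ x ∈ D i, y.1 x - x ∈ D i := fun i x hx =>
      (D i).sub_mem (by have := hσ i x hx; rwa [hswap i] at this) hx
    have ht := O.dec.decomp.decomp.two_le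
    by_cases h1 : ∃ i, ∃ x ∈ D i, y.1 x - x ≠ 0
    swap
    · push Not at h1
      have hz : ∀ x, y.1 x - x = 0 := fun x => by
        rw [hlin]; exact Finset.sum_eq_zero fun i _ => h1 i _ (cp_mem O x i)
      exact ⟨⟨0, by omega⟩, ⟨0, by omega⟩, fun x => by rw [hz]; exact zero_mem _,
        fun _ => Or.inl rfl⟩
    obtain ⟨p, xa, hxa, ha0⟩ := h1
    by_cases h2 : ∃ q, q ≠ p ∧ ∃ x ∈ D q, y.1 x - x ≠ 0
    · obtain ⟨q, hqp, xb, hxb, hb0⟩ := h2
      have hli : LinearIndependent F ![y.1 xa - xa, y.1 xb - xb] := by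
        rw [LinearIndependent.pair_iff]
        intro s r hsr
        have h := congrArg (fun z => cp O z p) hsr
        have h' := congrArg (fun z => cp O z q) hsr
        simp only [cp_add, cp_smul, cp_self O (hin p xa hxa), cp_other O (hin q xb hxb) hqp,
          cp_other O (hin p xa hxa) hqp.symm, cp_self O (hin q xb hxb), smul_zero, add_zero,
          zero_add, cp_self O (zero_mem (D p)), cp_self O (zero_mem (D q)), smul_eq_zero] at h h'
        exact ⟨h.resolve_right ha0, h'.resolve_right hb0⟩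
      have hfr : finrank F (Submodule.span F ({y.1 xa - xa, y.1 xb - xb} : Set V)) = 2 := by
        have := finrank_span_eq_card hli
        rw [Matrix.range_cons, Matrix.range_cons, Matrix.range_empty, Set.union_empty,
          Set.singleton_union, Fintype.card_fin] at this
        exact this
      have heq : Submodule.span F ({y.1 xa - xa, y.1 xb - xb} : Set V) =
          Submodule.span F ({v, w} : Set V) :=
        Submodule.eq_of_le_of_finrank_le (Submodule.span_le.2 (by
          rintro z (rfl | rfl)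
          · exact hU xa
          · exact hU xb)) (by omega)
      refine ⟨p, q, fun x => ?_, fun _ => Or.inr ⟨_, hin p xa hxa, _, hin q xb hxb, hqp.symm,
        fun x => heq ▸ hU x⟩⟩
      obtain ⟨α, β, h⟩ := Submodule.mem_span_pair.1
        (heq ▸ hU x : y.1 x - x ∈ Submodule.span F ({y.1 xa - xa, y.1 xb - xb} : Set V))
      rw [← h]
      exact (D p ⊔ D q).add_mem (Submodule.smul_mem _ α (Submodule.mem_sup_left (hin p xa hxa)))
        (Submodule.smul_mem _ β (Submodule.mem_sup_right (hin q xb hxb)))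
    · push Not at h2
      have hp : ∀ x, y.1 x - x = y.1 (cp O x p) - cp O x p := fun x => by
        rw [hlin]
        exact Finset.sum_eq_single p (fun i _ hi => h2 i hi _ (cp_mem O x i))
          (fun h => absurd (Finset.mem_univ p) h)
      exact ⟨p, p, fun x => Submodule.mem_sup_left (hp x ▸ hin p _ (cp_mem O x p)), fun _ => Or.inl rfl⟩
  have hv' : v ∈ D p ⊔ D q := ((D p ⊔ D q).smul_mem_iff hs₁).1 (e₁ ▸ hpq.1 x₁)
  have hw' : s₂ • w + s₂' • v ∈ D p ⊔ D q := e₂ ▸ hpq.1 x₂
  refine ⟨p, q, hv', ?_, fun h2 => ?_⟩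
  · rw [← (D p ⊔ D q).smul_mem_iff hs₂]
    simpa using (D p ⊔ D q).sub_mem hw' ((D p ⊔ D q).smul_mem s₂' hv')
  rcases hpq.2 h2 with h | ⟨a, ha, b, hb, hne, hab⟩
  · exact Or.inl h
  right
  set U := Submodule.span F ({a, b} : Set V)
  have hvU : v ∈ U := (U.smul_mem_iff hs₁).1 (e₁ ▸ hab x₁)
  refine ⟨a, ha, b, hb, hne, hvU, (U.smul_mem_iff hs₂).1 ?_⟩
  simpa using U.sub_mem (e₂ ▸ hab x₂ : s₂ • w + s₂' • v ∈ U) (U.smul_mem s₂' hvU)

end CfsgLib.MaxSub.OrthBlocks
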