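import Cfsg.Agent.Lib.MaxSub.OrthBlocks.Two

/-!
Blocks of dimension two: a related pair gives all Eichler transformations.
-/

set_option autoImplicit false
set_option maxHeartbeats 400000
set_option linter.unusedSectionVars false

namespace CfsgLib.MaxSub.OrthBlocks

open Module Cfsg Cfsg.Geo
open CfsgLib.Eichler (Sieg IsEich exists_eich)
open CfsgLib.WittExtension (quadIso)
open CfsgLib.MaxSub.Orth (InA)
open CfsgLib.MaxSub.OrthWreath (W)
open QuadraticMap (polar polarBilin)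

variable {F : Type*} [Field F] [Fintype F] {ι : Type} [Fintype ι] [DecidableEq ι] {t : ℕ}
  {R : QuadraticForm F (ι → F)} {D : Fin t → Submodule F (ι → F)}
  {K : Subgroup (quadIso R)}

local notation "V" => (ι → F)

theorem map_onto {k : ℕ} (O : BD R k D) {g : quadIso R} {i j : Fin t} (h : ∀ x ∈ D i, g.1 x ∈ D j) :
    ∀ y ∈ D j, ∃ x ∈ D i, g.1 x = y := fun y hy => by
  have hmap : (D i).map (g.1 : V →ₗ[F] V) = D j :=
    Submodule.eq_of_le_of_finrank_eq (Submodule.map_le_iff_le_comap.2 h)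
      (by rw [LinearEquiv.finrank_map_eq g.1 (D i), O.rank, O.rank])
  obtain ⟨x, hx, hxy⟩ := Submodule.mem_map.1 (hmap.ge hy)
  exact ⟨x, hx, hxy⟩

theorem exists_out (S : T2 R D) (X : Finset (Fin t)) (hX : X.card ≤ 4) : ∃ o, o ∉ X := by
  obtain ⟨o, ho⟩ := Finset.card_pos.1 (show 0 < Xᶜ.card by
    rw [Finset.card_compl, Fintype.card_fin]; have := S.many; omega)
  exact ⟨o, Finset.mem_compl.1 ho⟩

theorem exists_val (S : T2 R D) (i : Fin t) {c : F} (hc : c ≠ 0) : ∃ a ∈ D i, R a = c := by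
  obtain ⟨x, hx, hx0⟩ := (S.plane i).exists_ne
  obtain ⟨a, ha, haR, -⟩ := exists_class (S.plane i) (S.big i) (polarBilin R x)
    ((S.plane i).exists_polar hx fun h => hx0 (by rw [h, QuadraticMap.map_zero])) hc
  exact ⟨a, ha, haR⟩

theorem fix_of_supp {k : ℕ} (O : BD R k D) {g : quadIso R} {e : V}
    (h : ∀ p, cp O e p ≠ 0 → g.1 (cp O e p) = cp O e p) : g.1 e = e := by
  conv_lhs => rw [← sum_cp O e, map_sum]
  conv_rhs => rw [← sum_cp O e]
  refine Finset.sum_congr rfl fun p _ => ?_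
  by_cases h0 : cp O e p = 0
  · rw [h0, map_zero]
  · exact h p h0

/-- A vector of a plane moved to be neither perpendicular nor proportional to another. -/
theorem exists_move {P : Submodule F V} (hP : NPlane R P) (hB : Big R P) {u x : V} (hu : u ∈ P)
    (hx : x ∈ P) (hu0 : u ≠ 0) (hx0 : x ≠ 0)
    (h : polar R u x = 0 ∨ ∃ s : F, x = s • u) :
    ∃ a ∈ P, R a ≠ 0 ∧ polar R u ((rr R a).1 x) ≠ 0 ∧ ∀ s : F, (rr R a).1 x ≠ s • u := by
  classical
  haveI : FiniteDimensional F P := FiniteDimensional.of_finrank_eq_succ hP.rank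
  obtain ⟨L, hL⟩ := exists_pts hP
  obtain ⟨p, hp, hp0⟩ := Submodule.exists_mem_ne_zero_of_ne_bot
    (show P ⊓ LinearMap.ker (polarBilin R u) ≠ ⊥ from fun e => by
      have hdim := Orth.finrank_inf_ker P (polarBilin R u)
      rw [e, finrank_bot, hP.rank] at hdim; omega)
  have hup : polar R u p = 0 := hp.2
  let Φ : QuadraticForm F V :=
    polar R u x • R - QuadraticMap.linMulLin (polarBilin R x) (polarBilin R u)
  let Ψ : QuadraticForm F V :=
    polar R p x • R - QuadraticMap.linMulLin (polarBilin R x) (polarBilin R p)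
  have hΦ : ∀ a, Φ a = polar R u x * R a - polar R x a * polar R u a := fun a => by
    simp [Φ, QuadraticMap.linMulLin_apply]
  have hΨ : ∀ a, Ψ a = polar R p x * R a - polar R x a * polar R p a := fun a => by
    simp [Ψ, QuadraticMap.linMulLin_apply]
  have hval : ∀ w a : V, R a ≠ 0 → polar R w ((rr R a).1 x) =
      (R a)⁻¹ * (polar R w x * R a - polar R x a * polar R w a) := fun w a ha => by
    rw [rr_apply ha, QuadraticMap.polar_add_right, QuadraticMap.polar_smul_right, smul_eq_mul,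
      QuadraticMap.polar_comm R a x]
    field_simp
    ring
  -- the first condition
  obtain ⟨e, he, hne⟩ : ∃ e : Finset V, e.card ≤ 2 ∧ ∀ a ∈ L, Φ a = 0 → a ∈ e := by
    by_cases h0 : polar R u x = 0
    · refine ⟨(L.filter fun a => polarBilin R x a = 0) ∪ (L.filter fun a => polarBilin R u a = 0),
        ?_, fun a ha h => ?_⟩
      · refine le_trans (Finset.card_union_le _ _) ?_
        have := hL.zeros_lin (polarBilin R x) (hP.exists_polar hx hx0)
        have := hL.zeros_lin (polarBilin R u) (hP.exists_polar hu hu0)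
        omega
      · rw [hΦ, h0, zero_mul, zero_sub, neg_eq_zero, mul_eq_zero] at h
        simp only [Finset.mem_union, Finset.mem_filter]
        exact h.imp (fun h => ⟨ha, h⟩) (fun h => ⟨ha, h⟩)
    · refine ⟨L.filter fun a => Φ a = 0, hL.zeros Φ ⟨x, hx, ?_⟩,
        fun a ha h => Finset.mem_filter.2 ⟨ha, h⟩⟩
      obtain ⟨s, rfl⟩ := h.resolve_left h0
      rw [hΦ, QuadraticMap.polar_self, QuadraticMap.map_smul, QuadraticMap.polar_smul_right]
      rw [QuadraticMap.polar_smul_right] at h0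
      simp only [smul_eq_mul, nsmul_eq_mul, Nat.cast_ofNat] at h0 ⊢
      rw [QuadraticMap.polar_self, nsmul_eq_mul, Nat.cast_ofNat] at h0 ⊢
      intro hc
      exact mul_ne_zero (mul_ne_zero h0 (mul_ne_zero (left_ne_zero_of_mul h0) (left_ne_zero_of_mul h0)))
        (right_ne_zero_of_mul (right_ne_zero_of_mul h0)) (by linear_combination -hc)
  obtain ⟨hs1, hs2⟩ := hL.sing_le hP
  have hLc := hL.card
  have hq := Fintype.one_lt_card (α := F)
  by_cases huu : polar R u u = 0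
  · obtain ⟨a, ha, haR, haΦ⟩ : ∃ a ∈ L, R a ≠ 0 ∧ Φ a ≠ 0 := by
      by_contra hno
      push Not at hno
      have := Finset.card_le_card (show L ⊆ (L.filter fun a => R a = 0) ∪ e from fun a ha => by
        simp only [Finset.mem_union, Finset.mem_filter]
        by_cases h1 : R a = 0
        · exact Or.inl ⟨ha, h1⟩
        · exact Or.inr (hne a ha (hno a ha h1)))
      have := Finset.card_union_le (L.filter fun a => R a = 0) e
      by_cases hs : HasSing R P
      · have := hB.2 hs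
        omega
      · have := hs2 hs
        omega
    have h1 : polar R u ((rr R a).1 x) ≠ 0 := by
      rw [hval u a haR, ← hΦ]; exact mul_ne_zero (inv_ne_zero haR) haΦ
    exact ⟨a, hL.mem a ha, haR, h1, fun s hs => h1 (by
      rw [hs, QuadraticMap.polar_smul_right, huu, smul_zero])⟩
  have h2 : (2 : F) ≠ 0 ∧ R u ≠ 0 := by
    rw [QuadraticMap.polar_self, nsmul_eq_mul, Nat.cast_ofNat, mul_eq_zero, not_or] at huu
    exact huu
  have hpu : ∀ s : F, p ≠ s • u := fun s hs => by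
    refine hp0 ?_
    rw [hs, QuadraticMap.polar_smul_right, smul_eq_mul, mul_eq_zero, or_iff_left huu] at hup
    rw [hs, hup, zero_smul]
  have hRp : R p ≠ 0 := fun h0 => by
    obtain ⟨s, hs⟩ := perp_of_sing hP hp.1 hu hp0 h0 (by rw [QuadraticMap.polar_comm]; exact hup)
    exact h2.2 (by rw [hs, QuadraticMap.map_smul, h0, smul_zero])
  obtain ⟨e', he', hne'⟩ : ∃ e' : Finset V, e'.card ≤ 2 ∧ ∀ a ∈ L, Ψ a = 0 → a ∈ e' := by
    by_cases h0 : polar R p x = 0
    · refine ⟨(L.filter fun a => polarBilin R x a = 0) ∪ (L.filter fun a => polarBilin R p a = 0),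
        ?_, fun a ha h => ?_⟩
      · refine le_trans (Finset.card_union_le _ _) ?_
        have := hL.zeros_lin (polarBilin R x) (hP.exists_polar hx hx0)
        have := hL.zeros_lin (polarBilin R p) (hP.exists_polar hp.1 hp0)
        omega
      · rw [hΨ, h0, zero_mul, zero_sub, neg_eq_zero, mul_eq_zero] at h
        simp only [Finset.mem_union, Finset.mem_filter]
        exact h.imp (fun h => ⟨ha, h⟩) (fun h => ⟨ha, h⟩)
    · refine ⟨L.filter fun a => Ψ a = 0, hL.zeros Ψ ⟨x, hx, ?_⟩,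
        fun a ha h => Finset.mem_filter.2 ⟨ha, h⟩⟩
      have hxu : polar R u x = 0 := h.resolve_right fun ⟨s, hs⟩ => h0 (by
        rw [hs, QuadraticMap.polar_smul_right, QuadraticMap.polar_comm R p u, hup, smul_zero])
      obtain ⟨α, β, rfl⟩ := span_of_indep hP hu hp.1 hu0 hpu x hx
      rw [QuadraticMap.polar_add_right, QuadraticMap.polar_smul_right, QuadraticMap.polar_smul_right,
        hup, smul_zero, add_zero, smul_eq_mul, mul_eq_zero, or_iff_left huu] at hxu
      subst hxu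
      simp only [zero_smul, zero_add] at h0 hx0 ⊢
      have hβ : β ≠ 0 := fun e => hx0 (by rw [e, zero_smul])
      rw [hΨ]
      simp only [zero_smul, zero_add]
      rw [QuadraticMap.polar_self, QuadraticMap.map_smul, QuadraticMap.polar_smul_right,
        QuadraticMap.polar_self]
      simp only [smul_eq_mul, nsmul_eq_mul, Nat.cast_ofNat]
      intro hc
      exact mul_ne_zero (mul_ne_zero (mul_ne_zero h2.1 hRp) (mul_ne_zero hRp hβ))
        (mul_ne_zero hβ hβ) (by linear_combination -hc)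
  obtain ⟨a, ha, haR, haΦ, haΨ⟩ : ∃ a ∈ L, R a ≠ 0 ∧ Φ a ≠ 0 ∧ Ψ a ≠ 0 := by
    by_contra hno
    push Not at hno
    have := Finset.card_le_card (show L ⊆ (L.filter fun a => R a = 0) ∪ (e ∪ e') from fun a ha => by
      simp only [Finset.mem_union, Finset.mem_filter]
      by_cases h1 : R a = 0
      · exact Or.inl ⟨ha, h1⟩
      by_cases h3 : Φ a = 0
      · exact Or.inr (Or.inl (hne a ha h3))
      exact Or.inr (Or.inr (hne' a ha (hno a ha h1 h3))))
    have := Finset.card_union_le (L.filter fun a => R a = 0) (e ∪ e')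
    have := Finset.card_union_le e e'
    have hodd : Fintype.card F % 2 = 1 := FiniteField.odd_card_of_char_ne_two fun hc => by
      haveI := ringChar.of_eq hc
      exact h2.1 CharTwo.two_eq_zero
    by_cases hs : HasSing R P
    · have := hB.2 hs
      omega
    · have := hs2 hs
      have := hB.1
      omega
  refine ⟨a, hL.mem a ha, haR, ?_, fun s hs => ?_⟩
  · rw [hval u a haR, ← hΦ]; exact mul_ne_zero (inv_ne_zero haR) haΦ
  · have h3 : polar R p ((rr R a).1 x) = 0 := by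
      rw [hs, QuadraticMap.polar_smul_right, QuadraticMap.polar_comm R p u, hup, smul_zero]
    rw [hval p a haR, ← hΨ] at h3
    exact mul_ne_zero (inv_ne_zero haR) haΨ h3

/-- The class of a block vector is invariant under the permutations of the blocks in the group. -/
theorem Pr.map_mono {k : ℕ} (O : BD R k D) (hK : Ov R D K) {a u : V} {i : Fin t} (ha : a ∈ D i)
    (h : Pr K a u) {g : quadIso R} (hg : g ∈ K) (hm : Mono D g) : Pr K a (g.1 u) := by
  obtain ⟨j, hj⟩ := hm i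
  exact (pr_block O hK ha (hj a ha) h.1 (by rw [g.2]; exact h.1) (by rw [g.2]; exact ⟨R a, rfl⟩)).trans
    (h.map hg)

/-- A related vector of three blocks. -/
theorem exists_three (S : T2 R D) (hK : Ov R D K) (hII : II D K) :
    ∃ (i : Fin t) (a u : V) (p q r : Fin t), a ∈ D i ∧ Pr K a u ∧ p ≠ q ∧ p ≠ r ∧ q ≠ r ∧
      cp S.bd u p ≠ 0 ∧ cp S.bd u q ≠ 0 ∧ cp S.bd u r ≠ 0 := by
  classical
  have O := S.bd
  obtain ⟨a, u, ⟨i, ha⟩, hu, hP⟩ := hII
  obtain ⟨p, q, hpq, hp, hq⟩ := two_of_not_blk O hu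
  by_cases h3 : ∃ r, r ≠ p ∧ r ≠ q ∧ cp S.bd u r ≠ 0
  · obtain ⟨r, hr1, hr2, hr⟩ := h3
    exact ⟨i, a, u, p, q, r, ha, hP, hpq, hr1.symm, hr2.symm, hp, hq, hr⟩
  push Not at h3
  obtain ⟨r, hr⟩ := exists_out S {p, q} (le_trans Finset.card_le_two (by omega))
  simp only [Finset.mem_insert, Finset.mem_singleton, not_or] at hr
  obtain ⟨g, hgK, hgm, hgq, hgp, hgr, -, -⟩ :=
    exists_cycle O hK hpq.symm (Ne.symm hr.2) (Ne.symm hr.1)
  obtain ⟨x, hx⟩ : ∃ x, x = g.1 (cp S.bd u p) := ⟨_, rfl⟩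
  obtain ⟨y, hy⟩ : ∃ y, y = g.1 (cp S.bd u q) := ⟨_, rfl⟩
  have hxD : x ∈ D q := hx ▸ hgp _ (cp_mem S.bd u p)
  have hyD : y ∈ D r := hy ▸ hgq _ (cp_mem S.bd u q)
  have hx0 : x ≠ 0 := fun e => hp (g.1.map_eq_zero_iff.1 (hx ▸ e))
  have hy0 : y ≠ 0 := fun e => hq (g.1.map_eq_zero_iff.1 (hy ▸ e))
  have hu2 : u = cp S.bd u p + cp S.bd u q := by
    conv_lhs => rw [← sum_cp S.bd u]
    rw [← Finset.sum_pair hpq]
    refine (Finset.sum_subset (Finset.subset_univ _) fun l _ hl => ?_).symm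
    simp only [Finset.mem_insert, Finset.mem_singleton, not_or] at hl
    exact h3 l hl.1 hl.2
  have hgu : g.1 u = x + y := by rw [hu2, map_add, ← hx, ← hy]
  -- adjust the new component in the common block
  obtain ⟨w, x', y', hw, hx'D, hy'D, hy'0, hwe, h1, h2⟩ : ∃ (w x' y' : V), Pr K a w ∧ x' ∈ D q ∧
      y' ∈ D r ∧ y' ≠ 0 ∧ w = x' + y' ∧ polar R (cp S.bd u q) x' ≠ 0 ∧
      ∀ s : F, x' ≠ s • cp S.bd u q := by
    by_cases hgood : polar R (cp S.bd u q) x = 0 ∨ ∃ s : F, x = s • cp S.bd u q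
    swap
    · push Not at hgood
      exact ⟨g.1 u, x, y, hP.map_mono O hK ha hgK hgm, hxD, hyD, hy0, hgu, hgood.1, hgood.2⟩
    obtain ⟨b, hb, hbR, h1, h2⟩ := exists_move (S.plane q) (S.big q) (cp_mem S.bd u q) hxD hq hx0 hgood
    obtain ⟨b', hb', hb'R⟩ := exists_val S r hbR
    have hd := pr_block O hK hb hb' hbR (hb'R ▸ hbR) (by rw [hb'R]; exact ⟨R b, rfl⟩)
    refine ⟨(rr R b * rr R b').1 (g.1 u), (rr R b).1 x, (rr R b').1 y,
      (hP.map_mono O hK ha hgK hgm).map_mono O hK ha hd.2.2.2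
        (fun l => ⟨l, fun z hz => rr_maps O hb l _ (rr_maps O hb' l z hz)⟩),
      rr_maps O hb q x hxD, rr_maps O hb' r y hyD,
      fun e => hy0 ((rr R b').1.map_eq_zero_iff.1 e), ?_, h1, h2⟩
    show (rr R b).1 ((rr R b').1 (g.1 u)) = _
    rw [hgu, map_add, rr_perp (block_perp O hr.2 hb' hxD), map_add,
      rr_perp (block_perp O (Ne.symm hr.2) hb (rr_maps O hb' r y hyD))]
  obtain ⟨β, hβ⟩ : ∃ β : F, β = -((R u)⁻¹ * polar R u w) := ⟨_, rfl⟩
  have huw : polar R u w = polar R (cp S.bd u q) x' := by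
    rw [hwe, QuadraticMap.polar_add_right, ← cp_polar S.bd u hx'D, ← cp_polar S.bd u hy'D,
      h3 r hr.1 hr.2, QuadraticMap.polar_zero_left, add_zero]
  have hβ0 : β ≠ 0 := hβ ▸ neg_ne_zero.2 (mul_ne_zero (inv_ne_zero hP.2.1) (huw ▸ h1))
  have hval : (rr R u).1 w = w + β • u := by rw [rr_apply hP.2.1, hβ]
  refine ⟨i, a, _, p, q, r, ha, hP.reflect hw, hpq, Ne.symm hr.1, Ne.symm hr.2, ?_, ?_, ?_⟩
  · rw [hval, hwe, cp_add, cp_add, cp_smul, cp_other S.bd hx'D hpq.symm, cp_other S.bd hy'D hr.1,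
      zero_add, zero_add]
    exact smul_ne_zero hβ0 hp
  · rw [hval, hwe, cp_add, cp_add, cp_smul, cp_self S.bd hx'D, cp_other S.bd hy'D hr.2, add_zero]
    intro e
    exact h2 (-β) (by rw [neg_smul]; exact eq_neg_of_add_eq_zero_left e)
  · rw [hval, hwe, cp_add, cp_add, cp_smul, cp_other S.bd hx'D (Ne.symm hr.2), cp_self S.bd hy'D,
      h3 r hr.1 hr.2, smul_zero, zero_add, add_zero]
    exact hy'0

/-- The blocks outside the support of a singular vector. -/
theorem others_le (S : T2 R D) (hK : Ov R D K) {e : V} (hee : R e = 0) {X : Finset (Fin t)}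
    (hX : X.card ≤ 2) (he : ∀ p, p ∉ X → cp S.bd e p = 0) {l : Fin t} (hl : l ∉ X) {x₀ : V}
    (hx₀ : x₀ ∈ D l) (hx₀0 : x₀ ≠ 0) (hA : x₀ ∈ AE K e hee) : ∀ n, n ∉ X → D n ≤ W K e hee := by
  classical
  have O := S.bd
  have hl' : D l ≤ W K e hee := by
    refine mem_W_of_ae (top_of_refl (S.plane l) (S.big l) (AE K e hee) (fun a ha haR x hx hxl => ?_)
      hA hx₀ hx₀0)
    obtain ⟨o, ho⟩ := exists_out S (insert l X) (le_trans (Finset.card_insert_le _ _) (by omega))
    simp only [Finset.mem_insert, not_or] at ho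
    obtain ⟨b, hb, hbR⟩ := exists_val S o haR
    have hd := pr_block O hK ha hb haR (hbR ▸ haR) (by rw [hbR]; exact ⟨R a, rfl⟩)
    have hfix : (rr R a * rr R b).1 e = e := by
      show (rr R a).1 ((rr R b).1 e) = e
      rw [rr_perp (show polar R b e = 0 by
          rw [QuadraticMap.polar_comm, ← cp_polar S.bd e hb, he o ho.2, QuadraticMap.polar_zero_left]),
        rr_perp (show polar R a e = 0 by
          rw [QuadraticMap.polar_comm, ← cp_polar S.bd e ha, he l hl, QuadraticMap.polar_zero_left])]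
    have h := ae_map hx hd.2.2.2 hee hfix
    rwa [show (rr R a * rr R b).1 x = (SpinorNorm.refl R haR).1 x by
      show (rr R a).1 ((rr R b).1 x) = _
      rw [rr_perp (block_perp O ho.1 hb hxl), rr_eq haR]] at h
  intro n hn
  by_cases hnl : n = l
  · exact hnl ▸ hl'
  obtain ⟨o, ho⟩ := exists_out S (insert l (insert n X)) (le_trans (Finset.card_insert_le _ _)
    (le_trans (Nat.add_le_add_right (Finset.card_insert_le _ _) 1) (by omega)))
  simp only [Finset.mem_insert, not_or] at ho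
  obtain ⟨g, hgK, -, -, -, -, hsurj, hgo⟩ :=
    exists_cycle O hK (Ne.symm ho.1) (Ne.symm hnl) ho.2.1
  have hfix : g.1 e = e := fix_of_supp O fun p hp =>
    hgo p (fun h => hp (he p (h ▸ hl))) (fun h => hp (he p (h ▸ ho.2.2)))
      (fun h => hp (he p (h ▸ hn))) _ (cp_mem S.bd e p)
  intro y hy
  obtain ⟨x, hx, rfl⟩ := hsurj y hy
  exact OrthWreath.mem_map (hl' hx) hgK hee hfix

/-- A common isometry class gives a common product of the values on orthogonal pairs. -/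
theorem disc_eq (S : T2 R D) (h2 : (2 : F) ≠ 0) {i j : Fin t} {a c b d : V} (ha : a ∈ D i) (hc : c ∈ D i)
    (hac : polar R a c = 0) (haR : R a ≠ 0) (hcR : R c ≠ 0) (hb : b ∈ D j) (hd : d ∈ D j)
    (hbd : polar R b d = 0) : IsSquare (R a * R c * (R b * R d)) := by
  obtain ⟨φ, hφ⟩ := S.bd.dec.isometric i j
  have hne : ∀ s : F, c ≠ s • a := fun s e => by
    rw [e, QuadraticMap.polar_smul_right, QuadraticMap.polar_self, smul_eq_mul, nsmul_eq_mul,
      Nat.cast_ofNat, mul_eq_zero, mul_eq_zero] at hac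
    rcases hac with h | h | h
    · exact hcR (by rw [e, h, zero_smul, QuadraticMap.map_zero])
    · exact h2 h
    · exact haR h
  obtain ⟨b', hb', hb'φ⟩ : ∃ b', ∃ h : b' ∈ D i, (φ ⟨b', h⟩ : V) = b :=
    ⟨(φ.symm ⟨b, hb⟩).1, (φ.symm ⟨b, hb⟩).2, by simp⟩
  obtain ⟨d', hd', hd'φ⟩ : ∃ d', ∃ h : d' ∈ D i, (φ ⟨d', h⟩ : V) = d :=
    ⟨(φ.symm ⟨d, hd⟩).1, (φ.symm ⟨d, hd⟩).2, by simp⟩
  have ha0 : a ≠ 0 := fun e => haR (by rw [e, QuadraticMap.map_zero])
  obtain ⟨α, β, hαβ⟩ := span_of_indep (S.plane i) ha hc ha0 hne b' hb'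
  obtain ⟨γ, δ, hγδ⟩ := span_of_indep (S.plane i) ha hc ha0 hne d' hd'
  have hval : ∀ α β : F, R (α • a + β • c) = α * α * R a + β * β * R c := fun α β => by
    rw [QuadraticMap.map_add R, QuadraticMap.map_smul, QuadraticMap.map_smul,
      QuadraticMap.polar_smul_left, QuadraticMap.polar_smul_right, hac]
    simp
  have hRb : R b = α * α * R a + β * β * R c := by
    have e : R (φ ⟨b', hb'⟩ : V) = R b' := hφ ⟨b', hb'⟩
    rw [← hval, hαβ, ← e, hb'φ]
  have hRd : R d = γ * γ * R a + δ * δ * R c := by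
    have e : R (φ ⟨d', hd'⟩ : V) = R d' := hφ ⟨d', hd'⟩
    rw [← hval, hγδ, ← e, hd'φ]
  have hsum : R (b + d) = (α + γ) * (α + γ) * R a + (β + δ) * (β + δ) * R c := by
    have e : R (φ (⟨b', hb'⟩ + ⟨d', hd'⟩) : V) = R (b' + d') := hφ _
    rw [map_add, Submodule.coe_add, hb'φ, hd'φ, ← hαβ, ← hγδ] at e
    rw [e, show α • a + β • c + (γ • a + δ • c) = (α + γ) • a + (β + δ) • c by module, hval]
  rw [QuadraticMap.map_add R, hbd, add_zero, hRb, hRd] at hsum
  have hx : α * γ * R a + β * δ * R c = 0 := by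
    refine (mul_eq_zero.1 (show (2 : F) * (α * γ * R a + β * δ * R c) = 0 by
      linear_combination -hsum)).resolve_left h2
  refine ⟨R a * R c * (α * δ - β * γ), ?_⟩
  rw [hRb, hRd]
  linear_combination (R a * R c * (α * γ * R a + β * δ * R c)) * hx

/-- Four block reflections in two classes lie in the group. -/
theorem four_mem {k : ℕ} (O : BD R k D) (hK : Ov R D K) {i j n m : Fin t} {a b c d : V} (ha : a ∈ D i)
    (hb : b ∈ D j) (hc : c ∈ D n) (hd : d ∈ D m) (haR : R a ≠ 0) (hbR : R b ≠ 0) (hcR : R c ≠ 0)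
    (hdR : R d ≠ 0) (hab : ¬ IsSquare (R a * R b)) (hcd : ¬ IsSquare (R c * R d)) :
    rr R a * rr R b * (rr R c * rr R d) ∈ K := by
  have key : ∀ {n m : Fin t} {c d : V}, c ∈ D n → d ∈ D m → R c ≠ 0 → R d ≠ 0 →
      IsSquare (R a * R c) → IsSquare (R b * R d) → rr R a * rr R b * (rr R c * rr R d) ∈ K := by
    intro n m c d hc hd hcR hdR h1 h2
    have p1 := pr_block O hK ha (rr_maps O hb n c hc) haR (by rw [(rr R b).2]; exact hcR)
      (by rw [(rr R b).2]; exact h1)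
    have p2 := pr_block O hK hb hd hbR hdR h2
    have e : rr R b * rr R c = rr R ((rr R b).1 c) * rr R b := by
      rw [← rr_conj (rr R b) c, inv_mul_cancel_right]
    have := mul_mem p1.2.2.2 p2.2.2.2
    rwa [mul_assoc (rr R a), ← mul_assoc (rr R ((rr R b).1 c)), ← e, mul_assoc (rr R b),
      ← mul_assoc (rr R a)] at this
  have hnn : ∀ {x y z : F}, y ≠ 0 → ¬ IsSquare (x * y) → ¬ IsSquare (y * z) → IsSquare (x * z) :=
    fun {x y z} hy h1 h2 => by
      obtain ⟨s, hs⟩ := isSquare_mul_of_not h1 h2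
      exact ⟨s / y, by field_simp; linear_combination hs⟩
  by_cases hac : IsSquare (R a * R c)
  · refine key hc hd hcR hdR hac (hnn hcR (fun h => hab ?_) hcd)
    obtain ⟨s, hs⟩ := hac.mul h
    exact ⟨s / R c, by field_simp; linear_combination hs⟩
  · have e : rr R c * rr R d = rr R ((rr R c).1 d) * rr R c := by
      rw [← rr_conj (rr R c) d, inv_mul_cancel_right]
    rw [e]
    exact key (rr_maps O hc m d hd) hc (by rw [(rr R c).2]; exact hdR) hcR
      (by rw [(rr R c).2]; exact hnn hcR hac hcd) (hnn haR (by rwa [mul_comm] at hab) hac)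

/-- Two opposite values in three components. -/
theorem exists_opp (S : T2 R D) {u : V} {p q r : Fin t} (hpq : p ≠ q) (hpr : p ≠ r) (hqr : q ≠ r)
    (hp : cp S.bd u p ≠ 0) (hq : cp S.bd u q ≠ 0) (hr : cp S.bd u r ≠ 0) :
    ∃ (i j l : Fin t) (a b : V) (z : F), i ∈ ({p, q, r} : Finset (Fin t)) ∧
      j ∈ ({p, q, r} : Finset (Fin t)) ∧ i ≠ j ∧ l ≠ i ∧ l ≠ j ∧ cp S.bd u l ≠ 0 ∧ a ∈ D i ∧ b ∈ D j ∧
      z ≠ 0 ∧ R a ≠ 0 ∧ R b ≠ 0 ∧ polar R a u * polar R a u = z * R a ∧
      polar R b u * polar R b u = -z * R b := by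
  classical
  have hmem : ∀ l ∈ ({p, q, r} : Finset (Fin t)), cp S.bd u l ≠ 0 := fun l hl => by
    simp only [Finset.mem_insert, Finset.mem_singleton] at hl
    rcases hl with rfl | rfl | rfl <;> assumption
  have hc : ({p, q, r} : Finset (Fin t)).card = 3 := Finset.card_eq_three.2 ⟨p, q, r, hpq, hpr, hqr, rfl⟩
  obtain ⟨i, hi, j, hj, hij, z, hz, hz'⟩ := exists_opposite (D := D) (x := cp S.bd u) hc
    (fun i hi => ⟨S.plane i, S.big i, cp_mem S.bd u i, hmem i hi⟩) (fun i _ j _ h => hasSing_iso S.bd h)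
  obtain ⟨hz0, a, ha, haR, hza⟩ := mem_vals.1 hz
  obtain ⟨-, b, hb, hbR, hzb⟩ := mem_vals.1 hz'
  rw [cp_polar S.bd u ha, QuadraticMap.polar_comm R u a] at hza
  rw [cp_polar S.bd u hb, QuadraticMap.polar_comm R u b] at hzb
  obtain ⟨l, hl, hl'⟩ := Finset.exists_mem_notMem_of_card_lt_card
    (s := ({i, j} : Finset (Fin t))) (t := ({p, q, r} : Finset (Fin t)))
    (by rw [hc, Finset.card_pair hij]; omega)
  simp only [Finset.mem_insert, Finset.mem_singleton, not_or] at hl'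
  exact ⟨i, j, l, a, b, z, hi, hj, hij, hl'.1, hl'.2, hmem l hl, ha, hb, hz0, haR, hbR, hza, hzb⟩

/-- A shift vanishing at a block gives a centre there. -/
theorem shift_line (S : T2 R D) (hK : Ov R D K) {a₀ u : V} {i₀ : Fin t} (ha₀ : a₀ ∈ D i₀)
    (hP : Pr K a₀ u) {h : quadIso R} {Δ : V} (hΔ : R Δ = 0) (hhK : h ∈ K) (hhm : Mono D h)
    (hhu : h.1 u = u + Δ) {l : Fin t} (hsl : cp S.bd Δ l = 0) (hlu : cp S.bd u l ≠ 0) :
    ∃ x ∈ D l, x ≠ 0 ∧ x ∈ AE K Δ hΔ := by
  classical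
  have O := S.bd
  have hu0 : R u ≠ 0 := hP.2.1
  have huΔ : polar R u Δ = 0 := by
    have e := h.2 u
    rw [hhu, QuadraticMap.map_add R, hΔ, add_zero] at e
    linear_combination e
  have hP' : Pr K a₀ (u + Δ) := hhu ▸ hP.map_mono O hK ha₀ hhK hhm
  have h1 : (1 / R u) • u ∈ AE K Δ hΔ := by
    refine ⟨by rw [QuadraticMap.polar_smul_right, QuadraticMap.polar_comm, huΔ, smul_zero], ?_⟩
    exact eich_pair hu0 hΔ huΔ (by rw [one_smul]; exact (hP.symm.trans hP').2.2.2)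
  obtain ⟨y, hy, hy0⟩ := exists_block_ne O l hlu
  obtain ⟨c, hc, hcR, hcu⟩ := exists_class (S.plane l) (S.big l) (polarBilin R u) ⟨y, hy, hy0⟩ hP.1
  have hac : Pr K a₀ c := pr_block O hK ha₀ hc hP.1 (hcR ▸ hP.1) (by rw [hcR]; exact ⟨R a₀, rfl⟩)
  obtain ⟨u', hu'⟩ : ∃ u', u' = (rr R c).1 u := ⟨_, rfl⟩
  have hcΔ : polar R c Δ = 0 := by
    rw [QuadraticMap.polar_comm, ← cp_polar S.bd Δ hc, hsl, QuadraticMap.polar_zero_left]
  have hu'Δ : u' + Δ = (rr R c).1 (u + Δ) := by rw [map_add, ← hu', rr_perp hcΔ]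
  have hu'R : R u' = R u := hu' ▸ (rr R c).2 u
  have hu'p : polar R u' Δ = 0 := by
    rw [← rr_perp hcΔ, hu', OrthOrder.polar_map (rr R c).2, huΔ]
  have hP2 : Pr K a₀ u' := hu' ▸ hac.reflect hP
  have hP3 : Pr K a₀ (u' + Δ) := hu'Δ ▸ hac.reflect hP'
  have h2 : (1 / R u) • u' ∈ AE K Δ hΔ := by
    refine ⟨by rw [QuadraticMap.polar_smul_right, QuadraticMap.polar_comm, hu'p, smul_zero], ?_⟩
    rw [← hu'R]
    exact eich_pair (hu'R ▸ hu0) hΔ hu'p (by rw [one_smul]; exact (hP2.symm.trans hP3).2.2.2)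
  have h3 := (AE K Δ hΔ).sub_mem h2 h1
  have hcR0 : R c ≠ 0 := hcR ▸ hP.1
  rw [hu', rr_apply hcR0, ← smul_sub, add_sub_cancel_left, smul_smul] at h3
  refine ⟨_, (D l).smul_mem _ hc, ?_, h3⟩
  exact smul_ne_zero (mul_ne_zero (one_div_ne_zero hu0) (neg_ne_zero.2 (mul_ne_zero (inv_ne_zero hcR0)
    (by rw [QuadraticMap.polar_comm]; exact hcu)))) fun e => hcR0 (by rw [e, QuadraticMap.map_zero])

/-- Vectors fixing a given one, of both classes. -/
def TwoClass (R : QuadraticForm F (ι → F)) (D : Fin t → Submodule F (ι → F)) (u : ι → F) : Prop :=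
  IsSquare (-1 : F) ∨ ∃ (n m : Fin t) (c d : ι → F), c ∈ D n ∧ d ∈ D m ∧ R c ≠ 0 ∧ R d ≠ 0 ∧
    polar R c u = 0 ∧ polar R d u = 0 ∧ ¬ IsSquare (R c * R d)

theorem not_square_opp {a b : V} {u : V} {z : F} (hz : z ≠ 0) (haR : R a ≠ 0) (hbR : R b ≠ 0)
    (hza : polar R a u * polar R a u = z * R a) (hzb : polar R b u * polar R b u = -z * R b)
    (h1 : ¬ IsSquare (-1 : F)) : ¬ IsSquare (R a * R b) := by
  rintro ⟨s, hs⟩
  have hs0 : s ≠ 0 := fun e => mul_ne_zero haR hbR (by rw [hs, e, zero_mul])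
  refine h1 ⟨polar R a u * polar R b u / (z * s), ?_⟩
  field_simp
  linear_combination (z * z) * hs - (polar R b u * polar R b u) * hza - (z * R a) * hzb

/-- A singular shift on two blocks. -/
theorem shift_two (S : T2 R D) (hK : Ov R D K) {a₀ u : V} {i₀ : Fin t} (ha₀ : a₀ ∈ D i₀)
    (hP : Pr K a₀ u) {p q r : Fin t} (hpq : p ≠ q) (hpr : p ≠ r) (hqr : q ≠ r)
    (hp : cp S.bd u p ≠ 0) (hq : cp S.bd u q ≠ 0) (hr : cp S.bd u r ≠ 0) (hcl : TwoClass R D u) :
    ∃ (Δ : V) (hΔ : R Δ = 0) (X : Finset (Fin t)) (σ : Fin t), X.card ≤ 2 ∧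
      (∀ p, p ∉ X → cp S.bd Δ p = 0) ∧ cp S.bd Δ σ ≠ 0 ∧
      ∀ n, n ∉ X → D n ≤ W K Δ hΔ := by
  classical
  have O := S.bd
  obtain ⟨i, j, l, a, b, z, -, -, hij, hli, hlj, hlu, ha, hb, hz, haR, hbR, hza, hzb⟩ :=
    exists_opp S hpq hpr hqr hp hq hr
  obtain ⟨γa, hγa⟩ : ∃ γ : F, γ = -((R a)⁻¹ * polar R a u) := ⟨_, rfl⟩
  obtain ⟨γb, hγb⟩ : ∃ γ : F, γ = -((R b)⁻¹ * polar R b u) := ⟨_, rfl⟩
  have hva : R (γa • a) = z := by
    rw [QuadraticMap.map_smul, smul_eq_mul, hγa]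
    field_simp
    linear_combination hza
  have hvb : R (γb • b) = -z := by
    rw [QuadraticMap.map_smul, smul_eq_mul, hγb]
    field_simp
    linear_combination hzb
  have hγa0 : γa ≠ 0 := fun e => hz (by rw [← hva, e, zero_smul, QuadraticMap.map_zero])
  obtain ⟨h₀, h₀K, h₀m, h₀u⟩ : ∃ h₀ : quadIso R, rr R a * rr R b * h₀ ∈ K ∧ Mono D h₀ ∧ h₀.1 u = u := by
    by_cases h1 : IsSquare (-1 : F)
    · refine ⟨1, ?_, fun m => ⟨m, fun x hx => hx⟩, rfl⟩
      rw [mul_one]
      refine (pr_block O hK ha hb haR hbR ?_).2.2.2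
      obtain ⟨e, he⟩ := h1
      refine ⟨polar R a u * polar R b u * e / z, ?_⟩
      field_simp
      linear_combination (polar R a u * polar R a u * (polar R b u * polar R b u)) * he
        + (polar R b u * polar R b u) * hza + (z * R a) * hzb
    obtain ⟨n, m, c, d, hc, hd, hcR, hdR, hcu, hdu, hns⟩ := hcl.resolve_left h1
    refine ⟨rr R c * rr R d, four_mem O hK ha hb hc hd haR hbR hcR hdR
      (not_square_opp hz haR hbR hza hzb h1) hns,
      fun l => ⟨l, fun x hx => rr_maps O hc l _ (rr_maps O hd l x hx)⟩, ?_⟩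
    show (rr R c).1 ((rr R d).1 u) = u
    rw [rr_perp hdu, rr_perp hcu]
  obtain ⟨Δ, hΔdef⟩ : ∃ Δ, Δ = γa • a + γb • b := ⟨_, rfl⟩
  have hΔ : R Δ = 0 := by
    rw [hΔdef, QuadraticMap.map_add R, QuadraticMap.polar_smul_left, QuadraticMap.polar_smul_right,
      block_perp O hij ha hb, hva, hvb]
    simp
  have hsupp : ∀ m, m ∉ ({i, j} : Finset (Fin t)) → cp S.bd Δ m = 0 := fun m hm => by
    simp only [Finset.mem_insert, Finset.mem_singleton, not_or] at hm
    rw [hΔdef, cp_add, cp_smul, cp_smul, cp_other S.bd ha (Ne.symm hm.1), cp_other S.bd hb (Ne.symm hm.2)]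
    simp
  have hl : l ∉ ({i, j} : Finset (Fin t)) := by simp [hli, hlj]
  obtain ⟨x, hx, hx0, hxA⟩ := shift_line S hK ha₀ hP (h := rr R a * rr R b * h₀) hΔ h₀K
    (fun m => by
      obtain ⟨m', hm'⟩ := h₀m m
      exact ⟨m', fun x hx => rr_maps O ha m' _ (rr_maps O hb m' _ (hm' x hx))⟩)
    (by
      show (rr R a).1 ((rr R b).1 (h₀.1 u)) = _
      rw [h₀u, rr_apply hbR u, ← hγb, map_add, map_smul, rr_perp (block_perp O hij ha hb),
        rr_apply haR u, ← hγa, hΔdef]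
      abel)
    (hsupp l hl) hlu
  refine ⟨Δ, hΔ, {i, j}, i, Finset.card_le_two, hsupp, ?_,
    others_le S hK hΔ Finset.card_le_two hsupp hl hx hx0 hxA⟩
  rw [hΔdef, cp_add, cp_smul, cp_smul, cp_self S.bd ha, cp_other S.bd hb hij.symm, smul_zero, add_zero]
  exact smul_ne_zero hγa0 fun e => haR (by rw [e, QuadraticMap.map_zero])

theorem exists_shift (S : T2 R D) (hK : Ov R D K) (hII : II D K) :
    ∃ (Δ : V) (hΔ : R Δ = 0) (X : Finset (Fin t)) (σ : Fin t), X.card ≤ 2 ∧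
      (∀ p, p ∉ X → cp S.bd Δ p = 0) ∧ cp S.bd Δ σ ≠ 0 ∧
      ∀ n, n ∉ X → D n ≤ W K Δ hΔ := by
  classical
  have O := S.bd
  obtain ⟨i₀, a₀, u, p, q, r, ha₀, hP, hpq, hpr, hqr, hp, hq, hr⟩ := exists_three S hK hII
  by_cases hcl : TwoClass R D u
  · exact shift_two S hK ha₀ hP hpq hpr hqr hp hq hr hcl
  have h1 : ¬ IsSquare (-1 : F) := fun h => hcl (Or.inl h)
  have h2 : (2 : F) ≠ 0 := fun h => h1 ⟨1, by linear_combination -h⟩
  have hall : ∀ n, cp S.bd u n ≠ 0 := fun n hn => by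
    obtain ⟨c, hc, hcR⟩ := exists_val S n (one_ne_zero (α := F))
    obtain ⟨d, hd, hdR⟩ := exists_val S n (neg_ne_zero.2 (one_ne_zero (α := F)))
    have hperp : ∀ x ∈ D n, polar R x u = 0 := fun x hx => by
      rw [QuadraticMap.polar_comm, ← cp_polar S.bd u hx, hn, QuadraticMap.polar_zero_left]
    exact hcl (Or.inr ⟨n, n, c, d, hc, hd, by rw [hcR]; exact one_ne_zero,
      by rw [hdR]; exact neg_ne_zero.2 one_ne_zero, hperp c hc, hperp d hd,
      by rw [hcR, hdR, one_mul]; exact h1⟩)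
  obtain ⟨i, j, -, a, b, z, -, -, hij, -, -, -, ha, hb, hz, haR, hbR, hza, hzb⟩ :=
    exists_opp S hpq hpr hqr hp hq hr
  obtain ⟨γa, hγa⟩ : ∃ γ : F, γ = -((R a)⁻¹ * polar R a u) := ⟨_, rfl⟩
  obtain ⟨γb, hγb⟩ : ∃ γ : F, γ = -((R b)⁻¹ * polar R b u) := ⟨_, rfl⟩
  have hva : R (γa • a) = z := by
    rw [QuadraticMap.map_smul, smul_eq_mul, hγa]
    field_simp
    linear_combination hza
  have hvb : R (γb • b) = -z := by
    rw [QuadraticMap.map_smul, smul_eq_mul, hγb]
    field_simp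
    linear_combination hzb
  obtain ⟨T, hT, hTc⟩ := Finset.exists_subset_card_eq (s := ({i, j} : Finset (Fin t))ᶜ) (n := 3) (by
    rw [Finset.card_compl, Fintype.card_fin, Finset.card_pair hij]
    have := S.many
    omega)
  obtain ⟨p', q', r', hpq', hpr', hqr', hTeq⟩ := Finset.card_eq_three.1 hTc
  obtain ⟨i', j', -, a', b', z', hi', hj', hij', -, -, -, ha', hb', hz', ha'R, hb'R, hza', hzb'⟩ :=
    exists_opp S hpq' hpr' hqr' (hall p') (hall q') (hall r')
  obtain ⟨γc, hγc⟩ : ∃ γ : F, γ = -((R a')⁻¹ * polar R a' u) := ⟨_, rfl⟩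
  obtain ⟨γd, hγd⟩ : ∃ γ : F, γ = -((R b')⁻¹ * polar R b' u) := ⟨_, rfl⟩
  have hvc : R (γc • a') = z' := by
    rw [QuadraticMap.map_smul, smul_eq_mul, hγc]
    field_simp
    linear_combination hza'
  have hvd : R (γd • b') = -z' := by
    rw [QuadraticMap.map_smul, smul_eq_mul, hγd]
    field_simp
    linear_combination hzb'
  have hni := (hT (hTeq ▸ hi'))
  have hnj := (hT (hTeq ▸ hj'))
  simp only [Finset.mem_compl, Finset.mem_insert, Finset.mem_singleton, not_or] at hni hnj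
  replace hni : i' ≠ i ∧ i' ≠ i ∧ i' ≠ j := ⟨hni.1, hni.1, hni.2⟩
  replace hnj : j' ≠ i ∧ j' ≠ i ∧ j' ≠ j := ⟨hnj.1, hnj.1, hnj.2⟩
  have hfix4 : ∀ {m m' : Fin t} {x y : V}, m ≠ m' → x ∈ D m → y ∈ D m' →
      (rr R x).1 y = y := fun h hx hy => rr_perp (block_perp O h hx hy)
  obtain ⟨Δ, hΔdef⟩ : ∃ Δ, Δ = γa • a + γb • b + γc • a' + γd • b' := ⟨_, rfl⟩
  obtain ⟨h, hh⟩ : ∃ h, h = rr R a * rr R b * rr R a' * rr R b' := ⟨_, rfl⟩
  have hhK : h ∈ K := by
    rw [hh, mul_assoc]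
    exact four_mem O hK ha hb ha' hb' haR hbR ha'R hb'R (not_square_opp hz haR hbR hza hzb h1)
      (not_square_opp hz' ha'R hb'R hza' hzb' h1)
  have hhu : h.1 u = u + Δ := by
    rw [hh]
    show (rr R a).1 ((rr R b).1 ((rr R a').1 ((rr R b').1 u))) = _
    rw [rr_apply hb'R u, ← hγd]
    simp only [map_add, map_smul, hfix4 hij' ha' hb', hfix4 (Ne.symm hnj.2.2) hb hb',
      hfix4 (Ne.symm hnj.2.1) ha hb']
    rw [rr_apply ha'R u, ← hγc]
    simp only [map_add, map_smul, hfix4 (Ne.symm hni.2.2) hb ha', hfix4 (Ne.symm hni.2.1) ha ha']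
    rw [rr_apply hbR u, ← hγb]
    simp only [map_add, map_smul, hfix4 hij ha hb]
    rw [rr_apply haR u, ← hγa, hΔdef]
    abel

  obtain ⟨l, hl⟩ := exists_out S {i, j, i', j'} Finset.card_le_four
  simp only [Finset.mem_insert, Finset.mem_singleton, not_or] at hl
  have hΔ : R Δ = 0 := by
    rw [hΔdef]
    simp only [QuadraticMap.map_add R, QuadraticMap.polar_add_left, QuadraticMap.polar_smul_left,
      QuadraticMap.polar_smul_right, block_perp O hij ha hb, block_perp O (Ne.symm hni.2.1) ha ha',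
      block_perp O (Ne.symm hni.2.2) hb ha', block_perp O (Ne.symm hnj.2.1) ha hb',
      block_perp O (Ne.symm hnj.2.2) hb hb', block_perp O hij' ha' hb', hva, hvb, hvc, hvd]
    simp
  have hcpΔ : ∀ m, cp S.bd Δ m = γa • cp S.bd a m + γb • cp S.bd b m + γc • cp S.bd a' m +
      γd • cp S.bd b' m := fun m => by
    rw [hΔdef, cp_add, cp_add, cp_add, cp_smul, cp_smul, cp_smul, cp_smul]
  have hΔi : cp S.bd Δ i = γa • a := by
    rw [hcpΔ, cp_self S.bd ha, cp_other S.bd hb hij.symm, cp_other S.bd ha' hni.2.1,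
      cp_other S.bd hb' hnj.2.1]
    simp
  have hΔj : cp S.bd Δ j = γb • b := by
    rw [hcpΔ, cp_self S.bd hb, cp_other S.bd ha hij, cp_other S.bd ha' hni.2.2,
      cp_other S.bd hb' hnj.2.2]
    simp
  have hΔl : cp S.bd Δ l = 0 := by
    rw [hcpΔ, cp_other S.bd ha (Ne.symm hl.1), cp_other S.bd hb (Ne.symm hl.2.1),
      cp_other S.bd ha' (Ne.symm hl.2.2.1), cp_other S.bd hb' (Ne.symm hl.2.2.2)]
    simp
  obtain ⟨x, hx, hx0, hxA⟩ := shift_line S hK ha₀ hP hΔ hhK
    (fun m => ⟨m, fun x hx => by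
      rw [hh]
      exact rr_maps O ha m _ (rr_maps O hb m _ (rr_maps O ha' m _ (rr_maps O hb' m x hx)))⟩)
    hhu hΔl (hall l)
  -- the root element at the shift relates a vector with components of both classes
  have hperpc : ∀ {m : Fin t} (y : V), y ∈ D m → ∀ γ : F, R y ≠ 0 →
      ∃ c ∈ D m, R c ≠ 0 ∧ polar R y c = 0 ∧ polar R (γ • y) c = 0 := fun {m} y hy γ hyR => by
    obtain ⟨c, hc, hcR, hyc⟩ := exists_perp_block S (x := y) (m := m)
      (Or.inr (by rw [cp_self S.bd hy]; exact hyR))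
    exact ⟨c, hc, hcR, hyc, by rw [QuadraticMap.polar_smul_left, hyc, smul_zero]⟩
  obtain ⟨ci, hci, hciR, haci, hΔci⟩ := hperpc a ha γa haR
  obtain ⟨cj, hcj, hcjR, hbcj, hΔcj⟩ := hperpc b hb γb hbR
  rw [← hΔi, cp_polar S.bd Δ hci] at hΔci
  rw [← hΔj, cp_polar S.bd Δ hcj] at hΔcj
  obtain ⟨c, hc, hcR, hxc⟩ := exists_class (S.plane l) (S.big l) (polarBilin R x)
    ((S.plane l).exists_polar hx hx0) hciR
  change polar R x c ≠ 0 at hxc
  obtain ⟨g, hg⟩ := exists_eich R hΔ hxA.1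
  have hPr := (pr_block O hK hci hc hciR (hcR ▸ hciR) (by rw [hcR]; exact ⟨R ci, rfl⟩)).map (hxA.2 g hg)
  have hgci : g.1 ci = ci := by
    rw [hg ci, hΔci, block_perp O hl.1 hx hci]
    simp
  have hΔc : polar R Δ c = 0 := by
    rw [← cp_polar S.bd Δ hc, hΔl, QuadraticMap.polar_zero_left]
  rw [hgci, hg c, hΔc, zero_smul, zero_add, mul_zero, sub_zero] at hPr
  have hxc0 : -polar R x c ≠ 0 := neg_ne_zero.2 hxc
  refine shift_two S hK hci hPr hij (Ne.symm hl.1) (Ne.symm hl.2.1) ?_ ?_ ?_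
    (Or.inr ⟨i, j, ci, cj, hci, hcj, hciR, hcjR, ?_, ?_, fun hsq => ?_⟩)
  · rw [cp_add, cp_smul, cp_other S.bd hc hl.1, hΔi, zero_add]
    exact smul_ne_zero hxc0 (fun e => hz (by rw [← hva, e, QuadraticMap.map_zero]))
  · rw [cp_add, cp_smul, cp_other S.bd hc hl.2.1, hΔj, zero_add]
    exact smul_ne_zero hxc0 (fun e => hz (by rw [← neg_eq_zero, ← hvb, e, QuadraticMap.map_zero]))
  · rw [cp_add, cp_smul, cp_self S.bd hc, hΔl, smul_zero, add_zero]
    exact fun e => hciR (by rw [← hcR, e, QuadraticMap.map_zero])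
  · rw [QuadraticMap.polar_add_right, QuadraticMap.polar_smul_right, block_perp O (Ne.symm hl.1) hci hc,
      QuadraticMap.polar_comm R ci Δ, hΔci, smul_zero, add_zero]
  · rw [QuadraticMap.polar_add_right, QuadraticMap.polar_smul_right,
      block_perp O (Ne.symm hl.2.1) hcj hc, QuadraticMap.polar_comm R cj Δ, hΔcj, smul_zero, add_zero]
  · obtain ⟨s, hs⟩ := hsq
    obtain ⟨s', hs'⟩ := disc_eq S h2 ha hci haci haR hciR hb hcj hbcj
    refine not_square_opp hz haR hbR hza hzb h1 ⟨s' / s, ?_⟩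
    have hs0 : s ≠ 0 := fun e => mul_ne_zero hciR hcjR (by rw [hs, e, zero_mul])
    field_simp
    linear_combination hs' - (R a * R b) * hs

theorem exists_sing_pair (S : T2 R D) {r s : Fin t} (hrs : r ≠ s) :
    ∃ a ∈ D r, ∃ b ∈ D s, R a ≠ 0 ∧ R (a + b) = 0 := by
  obtain ⟨a, ha, haR⟩ := exists_val S r (one_ne_zero (α := F))
  obtain ⟨b, hb, hbR⟩ := exists_val S s (neg_ne_zero.2 (one_ne_zero (α := F)))
  exact ⟨a, ha, b, hb, by rw [haR]; exact one_ne_zero, by
    rw [QuadraticMap.map_add R, block_perp S.bd hrs ha hb, haR, hbR]; simp⟩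

/-- The singular vectors of a pair of blocks see the other blocks. -/
def PairLe (D : Fin t → Submodule F (ι → F)) (K : Subgroup (quadIso R)) (p q : Fin t) : Prop :=
  ∀ e ∈ D p ⊔ D q, ∀ he : R e = 0, e ≠ 0 → ∀ n, n ≠ p → n ≠ q → D n ≤ W K e he

theorem PairLe.move (S : T2 R D) (hK : Ov R D K) {p q r : Fin t} (hpq : p ≠ q) (hrp : r ≠ p)
    (hrq : r ≠ q) (h : PairLe D K p q) : PairLe D K r q := by
  classical
  obtain ⟨o, ho⟩ := exists_out S {p, q, r} (le_trans Finset.card_le_three (by omega))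
  simp only [Finset.mem_insert, Finset.mem_singleton, not_or] at ho
  obtain ⟨g, hgK, -, hgp, hgo, hgr, hsurj, hfix⟩ :=
    exists_cycle S.bd hK (Ne.symm ho.1) hrp.symm ho.2.2
  intro e he hee he0 n hnr hnq y hy
  obtain ⟨x, hx, z, hz, rfl⟩ := Submodule.mem_sup.1 he
  obtain ⟨x', hx', rfl⟩ := hsurj x hx
  have hz' : g.1 z = z := hfix q hpq.symm (Ne.symm ho.2.1) (Ne.symm hrq) z hz
  have he' : g.1 (x' + z) = g.1 x' + z := by rw [map_add, hz']
  have hee' : R (x' + z) = 0 := by rw [← g.2, he']; exact hee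
  have he'0 : x' + z ≠ 0 := fun e => he0 (by rw [← he', e, map_zero])
  obtain ⟨m, hmp, hmq, hm⟩ : ∃ m, m ≠ p ∧ m ≠ q ∧ ∀ x ∈ D m, g.1 x ∈ D n := by
    by_cases h1 : n = p
    · exact ⟨o, ho.1, ho.2.1, fun x hx => h1 ▸ hgo x hx⟩
    by_cases h2 : n = o
    · exact ⟨r, hrp, hrq, fun x hx => h2 ▸ hgr x hx⟩
    exact ⟨n, h1, hnq, fun x hx => by rw [hfix n h1 h2 hnr x hx]; exact hx⟩
  obtain ⟨y', hy', rfl⟩ := map_onto S.bd hm y hy
  exact OrthWreath.mem_map (h (x' + z) (Submodule.add_mem_sup hx' hz) hee' he'0 m hmp hmq hy') hgK hee he'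

theorem PairLe.symm {p q : Fin t} (h : PairLe D K p q) : PairLe D K q p :=
  fun e he hee he0 n h1 h2 => h e (sup_comm (D p) (D q) ▸ he) hee he0 n h2 h1

/-- A related pair gives everything. -/
theorem omega_le_of_ii (S : T2 R D) (hK : Ov R D K) (hII : II D K) :
    Subgroup.closure (Sieg R) ≤ K := by
  classical
  have O := S.bd
  obtain ⟨Δ, hΔ, X, σ, hX, hsupp, hσ, hW⟩ := exists_shift S hK hII
  obtain ⟨p, hp⟩ := exists_out S X (by omega)
  obtain ⟨q, hq⟩ := exists_out S (insert p X) (le_trans (Finset.card_insert_le _ _) (by omega))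
  simp only [Finset.mem_insert, not_or] at hq
  have hσX : σ ∈ X := by_contra fun h => hσ (hsupp σ h)
  have hbase : PairLe D K p q := by
    intro e he hee he0
    have hΔe : Δ ∈ W K e hee :=
      OrthWreath.swap_mem hee (sup_le (hW p hp) (hW q hq.2) he : e ∈ W K Δ hΔ)
    obtain ⟨o, ho⟩ := exists_out S (insert p (insert q X)) (le_trans (Finset.card_insert_le _ _)
      (le_trans (Nat.add_le_add_right (Finset.card_insert_le _ _) 1) (by omega)))
    simp only [Finset.mem_insert, not_or] at ho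
    have hσp : σ ≠ p := fun h => hp (h ▸ hσX)
    have hσq : σ ≠ q := fun h => hq.2 (h ▸ hσX)
    obtain ⟨y, hy, hy0⟩ := exists_block_ne O σ hσ
    obtain ⟨a, ha, haR, haΔ⟩ := exists_class (S.plane σ) (S.big σ) (polarBilin R Δ) ⟨y, hy, hy0⟩
      (one_ne_zero (α := F))
    obtain ⟨b, hb, hbR⟩ := exists_val S o (one_ne_zero (α := F))
    have hd := pr_block O hK ha hb (by rw [haR]; exact one_ne_zero) (by rw [hbR]; exact one_ne_zero)
      (by rw [haR, hbR]; exact ⟨1, rfl⟩)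
    have hperp : ∀ {m : Fin t} {x : V}, x ∈ D m → m ≠ p → m ≠ q → polar R x e = 0 :=
      fun {m x} hx h1 h2 => by
        rw [QuadraticMap.polar_comm, ← cp_polar S.bd e hx, cp_zero_of_two S.bd he h1 h2,
          QuadraticMap.polar_zero_left]
    have hfix : (rr R a * rr R b).1 e = e := by
      show (rr R a).1 ((rr R b).1 e) = e
      rw [rr_perp (hperp hb ho.1 ho.2.1), rr_perp (hperp ha hσp hσq)]
    have h1 := (AE K e hee).sub_mem (ae_map (W_le_ae hΔe) hd.2.2.2 hee hfix) (W_le_ae hΔe)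
    rw [show (rr R a * rr R b).1 Δ = (rr R a).1 ((rr R b).1 Δ) from rfl,
      rr_perp (show polar R b Δ = 0 by
        rw [QuadraticMap.polar_comm, ← cp_polar S.bd Δ hb, hsupp o ho.2.2,
          QuadraticMap.polar_zero_left]), rr_apply (by rw [haR]; exact one_ne_zero),
      add_sub_cancel_left] at h1
    have h := others_le S hK hee (X := {p, q}) (le_trans Finset.card_le_two (by omega))
      (fun m hm => by
        simp only [Finset.mem_insert, Finset.mem_singleton, not_or] at hm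
        exact cp_zero_of_two S.bd he hm.1 hm.2)
      (show σ ∉ ({p, q} : Finset (Fin t)) by simp [hσp, hσq]) ((D σ).smul_mem _ ha)
      (smul_ne_zero (neg_ne_zero.2 (mul_ne_zero (by rw [haR]; simp)
        (by rw [QuadraticMap.polar_comm]; exact haΔ)))
        (fun e' => one_ne_zero (α := F) (by rw [← haR, e', QuadraticMap.map_zero]))) h1
    exact fun n h1 h2 => h n (by simp [h1, h2])
  obtain ⟨r, hr⟩ := exists_out S {p, q} (le_trans Finset.card_le_two (by omega))
  obtain ⟨s, hs⟩ := exists_out S {p, q, r} (le_trans Finset.card_le_three (by omega))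
  simp only [Finset.mem_insert, Finset.mem_singleton, not_or] at hr hs
  have hrs : PairLe D K r s :=
    ((hbase.move S hK (Ne.symm hq.1) hr.1 hr.2).symm.move S hK (Ne.symm hr.2) hs.2.1 hs.2.2).symm
  obtain ⟨a₀, ha₀, b₀, hb₀, ha₀R, he₀⟩ := exists_sing_pair S (Ne.symm hs.2.2)
  obtain ⟨e₀, he₀def⟩ : ∃ e₀, e₀ = a₀ + b₀ := ⟨_, rfl⟩
  rw [← he₀def] at he₀
  have he₀0 : e₀ ≠ 0 := fun e => ha₀R (by
    rw [← cp_self S.bd ha₀, show cp S.bd a₀ r = cp S.bd e₀ r by
      rw [he₀def, cp_add, cp_other S.bd hb₀ hs.2.2, add_zero], e,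
      cp_self S.bd (zero_mem (D r)), QuadraticMap.map_zero])
  have he₀m : e₀ ∈ D r ⊔ D s := he₀def ▸ Submodule.add_mem_sup ha₀ hb₀
  obtain ⟨X₁, hX₁, hX₁e⟩ : ∃ X₁ ∈ D r, polar R e₀ X₁ = 1 := by
    obtain ⟨y, hy, hy0⟩ := (S.plane r).exists_polar ha₀ fun e => ha₀R (by rw [e, QuadraticMap.map_zero])
    have hy1 : polar R e₀ y = polar R a₀ y := by
      rw [he₀def, QuadraticMap.polar_add_left, block_perp O hs.2.2 hb₀ hy, add_zero]
    refine ⟨(polar R e₀ y)⁻¹ • y, (D r).smul_mem _ hy, ?_⟩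
    rw [QuadraticMap.polar_smul_right, smul_eq_mul, inv_mul_cancel₀ (hy1 ▸ hy0)]
  have hfull : ∀ e ∈ D p ⊔ D q, R e = 0 → e ≠ 0 → Orth.Full K e := by
    intro e he hee he0 x hx
    have hWe := hbase e he hee he0
    obtain ⟨z, hz⟩ : ∃ z, z = cp S.bd x p + cp S.bd x q := ⟨_, rfl⟩
    have hzm : z ∈ D p ⊔ D q := hz ▸ Submodule.add_mem_sup (cp_mem S.bd x p) (cp_mem S.bd x q)
    have hrest : x - z ∈ W K e hee := by
      rw [← sum_cp S.bd x, hz, ← Finset.sum_pair (Ne.symm hq.1),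
        ← Finset.sum_sdiff (Finset.subset_univ ({p, q} : Finset (Fin t))), add_sub_cancel_right]
      refine Submodule.sum_mem _ fun n hn => ?_
      simp only [Finset.mem_sdiff, Finset.mem_univ, true_and, Finset.mem_insert, Finset.mem_singleton,
        not_or] at hn
      exact hWe n hn.1 hn.2 (cp_mem S.bd x n)
    have hez : polar R e z = 0 := by
      have h := hrest.1
      rwa [QuadraticMap.polar_sub_right, hx, zero_sub, neg_eq_zero] at h
    have hzero : ∀ {w : V} {m : Fin t}, w ∈ D m → m ≠ p → m ≠ q → polar R w z = 0 ∧ polar R w e = 0 :=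
      fun {w m} hw h1 h2 => ⟨by
          rw [QuadraticMap.polar_comm, ← cp_polar S.bd z hw, cp_zero_of_two S.bd hzm h1 h2,
            QuadraticMap.polar_zero_left], by
          rw [QuadraticMap.polar_comm, ← cp_polar S.bd e hw, cp_zero_of_two S.bd he h1 h2,
            QuadraticMap.polar_zero_left]⟩
    have he₀z : polar R e₀ z = 0 := by
      rw [he₀def, QuadraticMap.polar_add_left, (hzero ha₀ hr.1 hr.2).1, (hzero hb₀ hs.1 hs.2.1).1,
        add_zero]
    have he₀e : polar R e₀ e = 0 := by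
      rw [he₀def, QuadraticMap.polar_add_left, (hzero ha₀ hr.1 hr.2).2, (hzero hb₀ hs.1 hs.2.1).2,
        add_zero]
    obtain ⟨g, hg⟩ := exists_eich R he₀ he₀z
    have hgK : g ∈ K := by
      have hW0 : z ∈ W K e₀ he₀ :=
        sup_le (hrs e₀ he₀m he₀ he₀0 p (Ne.symm hr.1) (Ne.symm hs.1))
          (hrs e₀ he₀m he₀ he₀0 q (Ne.symm hr.2) (Ne.symm hs.2.1)) hzm
      exact (W_le_ae hW0).2 g hg
    have hfix : g.1 e = e := by
      rw [hg e, he₀e, QuadraticMap.polar_comm R z e, hez]; simp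
    have hX : X₁ ∈ W K e hee := hWe r hr.1 hr.2 hX₁
    have he₀W : e₀ ∈ W K e hee := by
      rw [he₀def]
      exact (W K e hee).add_mem (hWe r hr.1 hr.2 ha₀) (hWe s hs.1 hs.2.1 hb₀)
    have h := OrthWreath.mem_map hX hgK hee hfix
    rw [hg X₁, hX₁e, one_smul] at h
    have h' := (W K e hee).sub_mem ((W K e hee).sub_mem h hX)
      ((W K e hee).smul_mem (-(polar R z X₁) - R z * 1) he₀W)
    rw [show X₁ + (z + (-(polar R z X₁) - R z * 1) • e₀) - X₁ -
      (-(polar R z X₁) - R z * 1) • e₀ = z by abel] at h'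
    have := ((W K e hee).add_mem h' hrest).2 1
    rwa [one_smul, add_sub_cancel] at this
  obtain ⟨a, ha, b, hb, haR, hee⟩ := exists_sing_pair S (Ne.symm hq.1)
  have he : a + b ∈ D p ⊔ D q := Submodule.add_mem_sup ha hb
  have ha0 : a ≠ 0 := fun e => haR (by rw [e, QuadraticMap.map_zero])
  obtain ⟨c, hc, hcR, hca⟩ := exists_class (S.plane p) (S.big p) (polarBilin R a)
    ((S.plane p).exists_polar ha ha0) (one_ne_zero (α := F))
  have hcR0 : R c ≠ 0 := by rw [hcR]; exact one_ne_zero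
  have hce : polar R c (a + b) ≠ 0 := by
    rw [QuadraticMap.polar_add_right, block_perp O (Ne.symm hq.1) hc hb, add_zero,
      QuadraticMap.polar_comm]
    exact hca
  have hef : polar R (a + b) ((rr R c).1 (a + b)) ≠ 0 := by
    rw [rr_apply hcR0, QuadraticMap.polar_add_right, QuadraticMap.polar_self, hee,
      QuadraticMap.polar_smul_right, smul_zero, zero_add, QuadraticMap.polar_comm R (a + b) c,
      smul_eq_mul]
    exact mul_ne_zero (neg_ne_zero.2 (mul_ne_zero (inv_ne_zero hcR0) hce)) hce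
  have he0 : a + b ≠ 0 := fun e => hef (by rw [e, QuadraticMap.polar_zero_left])
  have hf : (rr R c).1 (a + b) ∈ D p ⊔ D q := by
    rw [map_add]
    exact Submodule.add_mem_sup (rr_maps O hc p a ha) (rr_maps O hc q b hb)
  have hff : R ((rr R c).1 (a + b)) = 0 := by rw [(rr R c).2]; exact hee
  exact Orth.le_of_full_pair O.nd O.hdim hee hff hef (hfull _ he hee he0)
    (hfull _ hf hff fun e => hef (by rw [e, QuadraticMap.polar_zero_right]))

/-- The derived group moves the blocks. -/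
theorem exists_not_mono (S : T2 R D) : ∃ g ∈ Subgroup.closure (Sieg R), ¬ Mono D g := by
  classical
  have O := S.bd
  obtain ⟨p, hp⟩ := exists_out S ∅ (by simp)
  obtain ⟨q, hq⟩ := exists_out S {p} (by simp)
  obtain ⟨r, hr⟩ := exists_out S {p, q} (le_trans Finset.card_le_two (by omega))
  simp only [Finset.mem_insert, Finset.mem_singleton, not_or] at hq hr
  obtain ⟨a, ha, b, hb, haR, hee⟩ := exists_sing_pair S (Ne.symm hq)
  obtain ⟨x, hx, hxR⟩ := exists_val S r (one_ne_zero (α := F))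
  obtain ⟨y, hy, hay⟩ := (S.plane p).exists_polar ha fun e => haR (by rw [e, QuadraticMap.map_zero])
  have hey : polar R (a + b) y ≠ 0 := by
    rw [QuadraticMap.polar_add_left, block_perp O hq hb hy, add_zero]; exact hay
  have he0 : a + b ≠ 0 := fun e => hey (by rw [e, QuadraticMap.polar_zero_left])
  have hex : polar R (a + b) x = 0 := by
    rw [QuadraticMap.polar_add_left, block_perp O (Ne.symm hr.1) ha hx,
      block_perp O (Ne.symm hr.2) hb hx, add_zero]
  obtain ⟨g, hg⟩ := exists_eich R hee hex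
  refine ⟨g, OmegaSimple.eich_mem R O.nd O.hdim he0 hee hex hg, fun hm => ?_⟩
  obtain ⟨j, hj⟩ := hm p
  have h := hj y hy
  rw [hg y] at h
  obtain ⟨κ, hκ⟩ : ∃ κ : F, κ = -(polar R x y) - R x * polar R (a + b) y := ⟨_, rfl⟩
  rw [← hκ] at h
  have hκ0 : κ ≠ 0 := by
    rw [hκ, block_perp O hr.1 hx hy, hxR, one_mul, neg_zero, zero_sub]
    exact neg_ne_zero.2 hey
  refine not_blk O (Ne.symm hr.2) (u := y + (polar R (a + b) y • x + κ • (a + b))) ?_ ?_ ⟨j, h⟩
  · rw [cp_add, cp_add, cp_smul, cp_smul, cp_add, cp_other S.bd hy (Ne.symm hq),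
      cp_other S.bd hx hr.2, cp_other S.bd ha (Ne.symm hq), cp_self S.bd hb]
    simp only [smul_zero, zero_add]
    refine smul_ne_zero hκ0 fun e => ?_
    rw [e, add_zero] at hee
    exact haR hee
  · rw [cp_add, cp_add, cp_smul, cp_smul, cp_add, cp_other S.bd hy (Ne.symm hr.1), cp_self S.bd hx,
      cp_other S.bd ha (Ne.symm hr.1), cp_other S.bd hb (Ne.symm hr.2)]
    simp only [smul_zero, zero_add, add_zero]
    exact smul_ne_zero hey fun e => one_ne_zero (α := F) (by rw [← hxR, e, QuadraticMap.map_zero])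

end CfsgLib.MaxSub.OrthBlocks
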