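import Cfsg.Agent.Lib.MaxSub.OrthBlocks.Base

/-!
Cycles of blocks, Eichler transformations from pairs, and the additive group of Eichler transformations.
-/

set_option autoImplicit false
set_option maxHeartbeats 400000
set_option linter.unusedSectionVars false

namespace CfsgLib.MaxSub.OrthBlocks

open Module Cfsg Cfsg.Geo
open CfsgLib.Eichler (Sieg IsEich exists_eich)
open CfsgLib.WittExtension (quadIso)
open CfsgLib.MaxSub.Orth (InA)
open QuadraticMap (polar polarBilin)

variable {F : Type*} [Field F] [Fintype F] {ι : Type} [Fintype ι] [DecidableEq ι] {t k : ℕ}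
  {R : QuadraticForm F (ι → F)} {D : Fin t → Submodule F (ι → F)}
  {K : Subgroup (quadIso R)}

local notation "V" => (ι → F)

/-- An isometry interchanging two blocks. -/
theorem exists_block_swap (O : BD R k D) {a b : Fin t} (hab : a ≠ b) :
    ∃ s : quadIso R, (∀ x ∈ D a, s.1 x ∈ D b) ∧ (∀ x ∈ D b, s.1 x ∈ D a) ∧
      (∀ i, i ≠ a → i ≠ b → ∀ x ∈ D i, s.1 x = x) ∧
      (∀ x ∈ D a, s⁻¹.1 x ∈ D b) ∧ (∀ x ∈ D b, s⁻¹.1 x ∈ D a) ∧
      (∀ i, i ≠ a → i ≠ b → ∀ x ∈ D i, s⁻¹.1 x = x) := by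
  classical
  obtain ⟨φ, hφ⟩ := O.dec.isometric a b
  let ψ : ∀ i, D i →ₗ[F] V := fun i =>
    if h : i = a then h ▸ ((D b).subtype ∘ₗ φ.toLinearMap)
    else if h' : i = b then h' ▸ ((D a).subtype ∘ₗ φ.symm.toLinearMap)
    else (D i).subtype
  have hψa : ∀ x : D a, ψ a x = (φ x : V) := fun x => by simp [ψ]
  have hψb : ∀ x : D b, ψ b x = (φ.symm x : V) := fun x => by simp [ψ, hab.symm]
  have hψo : ∀ i, i ≠ a → i ≠ b → ∀ x : D i, ψ i x = (x : V) := fun i h1 h2 x => by
    simp [ψ, h1, h2]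
  obtain ⟨T, hT⟩ := Decomp.exists_glue O.dec.decomp.decomp ψ
  have hTm : ∀ i x (hx : x ∈ D i), T x = ψ i ⟨x, hx⟩ := fun i x hx => by
    have hfam : Decomp.Fam D (Pi.single i x) := fun j => by
      by_cases h : j = i
      · subst h; simpa using hx
      · simp [Pi.single_eq_of_ne h]
    have := hT _ hfam
    rw [Finset.sum_pi_single'] at this
    simp only [Finset.mem_univ, if_true] at this
    rw [this, Finset.sum_eq_single i]
    · congr 1; exact Subtype.ext (by simp)
    · intro j _ hj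
      rw [show (⟨(Pi.single i x : Fin t → V) j, hfam j⟩ : D j) = 0 from
        Subtype.ext (by simp [Pi.single_eq_of_ne hj]), map_zero]
    · exact fun h => absurd (Finset.mem_univ i) h
  let σ := Equiv.swap a b
  have hmem : ∀ i, ∀ z ∈ D i, T z ∈ D (σ i) := fun i z hz => by
    by_cases h1 : i = a
    · subst h1; rw [show σ i = b from Equiv.swap_apply_left _ _, hTm _ z hz, hψa]; exact (φ _).2
    by_cases h2 : i = b
    · subst h2; rw [show σ i = a from Equiv.swap_apply_right _ _, hTm _ z hz, hψb]; exact (φ.symm _).2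
    rw [show σ i = i from Equiv.swap_apply_of_ne_of_ne h1 h2, hTm _ z hz, hψo i h1 h2]; exact hz
  have hQ : ∀ i, ∀ z ∈ D i, R (T z) = R z := fun i z hz => by
    rw [hTm i z hz]
    by_cases h1 : i = a
    · subst h1; rw [hψa, hφ]
    by_cases h2 : i = b
    · subst h2; rw [hψb, ← hφ, LinearEquiv.apply_symm_apply]
    rw [hψo i h1 h2]
  have hTT' : ∀ i, ∀ z ∈ D i, T (T z) = z := fun i z hz => by
    by_cases h1 : i = a
    · subst h1
      rw [hTm i z hz, hψa, hTm b _ (φ _).2, hψb]; simp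
    by_cases h2 : i = b
    · subst h2
      rw [hTm i z hz, hψb, hTm a _ (φ.symm _).2, hψa]; simp
    rw [hTm i z hz, hψo i h1 h2, hTm i z hz, hψo i h1 h2]
  have hTT : ∀ x, T (T x) = x := fun x => by
    conv_lhs => rw [← sum_cp O x, map_sum, map_sum]
    conv_rhs => rw [← sum_cp O x]
    exact Finset.sum_congr rfl fun i _ => hTT' i _ (cp_mem O x i)
  let L : V ≃ₗ[F] V := LinearEquiv.ofLinear T T (LinearMap.ext hTT) (LinearMap.ext hTT)
  have hiso : ∀ x, R (L x) = R x := fun x => by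
    show R (T x) = _
    have h1 := Orth.map_sum_orth (Q := R) (w := fun i => T (cp O x i))
      (fun p e hpe => block_perp O (fun h => hpe (σ.injective h)) (hmem p _ (cp_mem O x p))
        (hmem e _ (cp_mem O x e)))
      (fun _ => 1) Finset.univ
    simp only [one_smul, one_mul] at h1
    conv_lhs => rw [← sum_cp O x, map_sum, h1]
    rw [map_cp O x]
    exact Finset.sum_congr rfl fun i _ => hQ i _ (cp_mem O x i)
  refine ⟨⟨L, hiso⟩, fun x hx => ?_, fun x hx => ?_, fun i h1 h2 x hx => ?_, fun x hx => ?_,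
    fun x hx => ?_, fun i h1 h2 x hx => ?_⟩
  · exact Equiv.swap_apply_left a b ▸ hmem a x hx
  · exact Equiv.swap_apply_right a b ▸ hmem b x hx
  · show T x = x; rw [hTm i x hx, hψo i h1 h2]
  · exact Equiv.swap_apply_left a b ▸ hmem a x hx
  · exact Equiv.swap_apply_right a b ▸ hmem b x hx
  · show T x = x; rw [hTm i x hx, hψo i h1 h2]

/-- A cycle of three blocks in the overgroup, fixing the others pointwise. -/
theorem exists_cycle (O : BD R k D) (hK : Ov R D K) {i l m : Fin t} (hil : i ≠ l) (him : i ≠ m)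
    (hlm : l ≠ m) :
    ∃ g ∈ K, Mono D g ∧ (∀ x ∈ D i, g.1 x ∈ D m) ∧ (∀ x ∈ D l, g.1 x ∈ D i) ∧
      (∀ x ∈ D m, g.1 x ∈ D l) ∧ (∀ y ∈ D m, ∃ x ∈ D i, g.1 x = y) ∧
      ∀ p, p ≠ i → p ≠ l → p ≠ m → ∀ x ∈ D p, g.1 x = x := by
  obtain ⟨s, sa, sb, so, sa', sb', so'⟩ := exists_block_swap O hil
  obtain ⟨τ, ta, tb, t_o, ta', tb', to'⟩ := exists_block_swap O hlm
  obtain ⟨g, hg⟩ : ∃ g, g = s * τ * s⁻¹ * τ⁻¹ := ⟨_, rfl⟩
  have hval : ∀ x, g.1 x = s.1 (τ.1 (s⁻¹.1 (τ⁻¹.1 x))) := fun x => hg ▸ rfl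
  have hgi : ∀ x ∈ D i, g.1 x ∈ D m := fun x hx => by
    rw [hval, to' i hil him x hx]
    have h1 := ta _ (sa' x hx)
    rwa [so m him.symm hlm.symm _ h1]
  have hgl : ∀ x ∈ D l, g.1 x ∈ D i := fun x hx => by
    rw [hval, so' m him.symm hlm.symm _ (ta' x hx)]
    exact sb _ (tb _ (ta' x hx))
  have hgm : ∀ x ∈ D m, g.1 x ∈ D l := fun x hx => by
    rw [hval]
    have h1 := sb' _ (tb' x hx)
    rw [t_o i hil him _ h1]
    exact sa _ h1
  have hgo : ∀ p, p ≠ i → p ≠ l → p ≠ m → ∀ x ∈ D p, g.1 x = x := fun p h1 h2 h3 x hx => by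
    rw [hval, to' p h2 h3 x hx, so' p h1 h2 x hx, t_o p h2 h3 x hx, so p h1 h2 x hx]
  have hm : Mono D g := fun p => by
    by_cases h1 : p = i
    · exact ⟨m, h1 ▸ hgi⟩
    by_cases h2 : p = l
    · exact ⟨i, h2 ▸ hgl⟩
    by_cases h3 : p = m
    · exact ⟨l, h3 ▸ hgm⟩
    exact ⟨p, fun x hx => by rw [hgo p h1 h2 h3 x hx]; exact hx⟩
  refine ⟨g, hK g ?_ hm, hm, hgi, hgl, hgm, fun y hy => ?_, hgo⟩
  · rw [← OmegaSimple.commutator_eq R O.nd O.hdim, _root_.commutator_def, hg]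
    exact Subgroup.commutator_mem_commutator (Subgroup.mem_top s) (Subgroup.mem_top τ)
  · have hmap : (D i).map (g.1 : V →ₗ[F] V) = D m :=
      Submodule.eq_of_le_of_finrank_eq (Submodule.map_le_iff_le_comap.2 hgi)
        (by rw [LinearEquiv.finrank_map_eq g.1 (D i), O.rank, O.rank])
    obtain ⟨x, hx, hxy⟩ := Submodule.mem_map.1 (hmap.ge hy)
    exact ⟨x, hx, hxy⟩

/-- A pair of reflections differing by a singular vector is an Eichler transformation. -/
theorem eich_pair {u e : V} {s : F} (hu : R u ≠ 0) (he : R e = 0) (hue : polar R u e = 0)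
    (h : rr R u * rr R (u + s • e) ∈ K) : InA K e ((s / R u) • u) := by
  by_cases hs : s = 0
  · rw [hs, zero_div, zero_smul]; exact Orth.inA_zero e
  intro g hg
  obtain ⟨c, hc⟩ : ∃ c, c = s / R u := ⟨_, rfl⟩
  have hc0 : c ≠ 0 := hc ▸ div_ne_zero hs hu
  obtain ⟨w, hw⟩ : ∃ w, w = c • (u + s • e) := ⟨_, rfl⟩
  have hue' : polar R e u = 0 := by rw [QuadraticMap.polar_comm]; exact hue
  have huse : R (u + s • e) = R u := by
    rw [QuadraticMap.map_add R, QuadraticMap.map_smul, QuadraticMap.polar_smul_right, he, hue]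
    simp
  have hwQ : R w = c * c * R u := by rw [hw, QuadraticMap.map_smul, huse, smul_eq_mul]
  have hew : polar R e w = 0 := by
    rw [hw, QuadraticMap.polar_smul_right, QuadraticMap.polar_add_right, hue',
      QuadraticMap.polar_smul_right, QuadraticMap.polar_self, he]
    simp
  have hw' : w + (-R w) • e = c • u := by
    rw [hwQ, hw, hc]
    match_scalars <;> field_simp <;> ring
  have hQw : R w ≠ 0 := hwQ ▸ mul_ne_zero (mul_ne_zero hc0 hc0) hu
  have hQw' : R (w + (-R w) • e) ≠ 0 := by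
    rw [hw', QuadraticMap.map_smul]; exact mul_ne_zero (mul_ne_zero hc0 hc0) hu
  have h1 := Eichler.eich_refl R he hew hQw hQw'
  rw [← rr_eq, ← rr_eq, hw', rr_smul hu hc0, hw, rr_smul (by rw [huse]; exact hu) hc0, ← hw] at h1
  have h2 := Eichler.eich_shift R he hew (-R w) h1
  rw [hw'] at h2
  rw [hc] at h2
  rw [Eichler.eich_unique R hg h2]
  exact h

/-- The vectors whose Eichler transformations at `e` lie in `K`. -/
def AE (K : Subgroup (quadIso R)) (e : ι → F) (he : R e = 0) : AddSubgroup (ι → F) where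
  carrier := {x | polar R e x = 0 ∧ InA K e x}
  zero_mem' := ⟨QuadraticMap.polar_zero_right _ _, Orth.inA_zero e⟩
  add_mem' {x y} hx hy := ⟨by rw [QuadraticMap.polar_add_right, hx.1, hy.1, add_zero],
    Orth.InA.add he hx.1 hy.1 hx.2 hy.2⟩
  neg_mem' {x} hx := ⟨by rw [QuadraticMap.polar_neg_right, hx.1, neg_zero], fun g hg => by
    obtain ⟨g₀, hg₀⟩ := exists_eich R he hx.1
    have h := Eichler.eich_add R he hx.1
      (show polar R e (-x) = 0 by rw [QuadraticMap.polar_neg_right, hx.1, neg_zero]) hg₀ hg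
    rw [add_neg_cancel] at h
    rw [eq_inv_of_mul_eq_one_right (Eichler.eich_unique R h (Eichler.eich_zero R e))]
    exact inv_mem (hx.2 _ hg₀)⟩

theorem ae_map {e x : V} {he : R e = 0} (hx : x ∈ AE K e he) {g : quadIso R} (hg : g ∈ K) {e' : V}
    (he' : R e' = 0) (h : g.1 e = e') : g.1 x ∈ AE K e' he' := by
  subst h
  exact ⟨by rw [OrthOrder.polar_map g.2, hx.1], hx.2.conj hg⟩

theorem mem_W_of_ae {e : V} {he : R e = 0} {j : Fin t} (h : ∀ x ∈ D j, x ∈ AE K e he) :
    D j ≤ OrthWreath.W K e he := fun x hx =>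
  ⟨(h x hx).1, fun s => (h _ ((D j).smul_mem s hx)).2⟩

theorem W_le_ae {e x : V} {he : R e = 0} (hx : x ∈ OrthWreath.W K e he) : x ∈ AE K e he :=
  ⟨hx.1, by simpa using hx.2 1⟩

/-- The commutator subgroup does not stabilise the decomposition. -/
theorem not_mono_omega (O : BD R k D) {i j : Fin t} (hij : i ≠ j) {a b : V} (ha : a ∈ D i)
    (hb : b ∈ D j) (ha0 : a ≠ 0) (hRa : R a = 0) (hRb : R b ≠ 0) :
    ∃ g ∈ Subgroup.closure (Sieg R), ¬ Mono D g := by
  have hab : polar R a b = 0 := block_perp O hij ha hb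
  obtain ⟨g, hg⟩ := exists_eich R hRa hab
  refine ⟨g, OmegaSimple.eich_mem R O.nd O.hdim ha0 hRa hab hg, fun hm => ?_⟩
  obtain ⟨y, hy, hay⟩ : ∃ y ∈ D i, polar R a y ≠ 0 := by
    by_contra h
    push Not at h
    exact ha0 (block_nd O i a ha h)
  obtain ⟨m, hmm⟩ := hm i
  have h1 := hmm y hy
  have hga : g.1 a = a := by
    rw [hg a, QuadraticMap.polar_self, hRa, QuadraticMap.polar_comm R b a, hab]; simp
  have hmi : m = i := by
    by_contra h
    have := hmm a ha
    rw [hga] at this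
    exact ha0 (Submodule.disjoint_def.1 (O.dec.decomp.decomp.indep.pairwiseDisjoint h) a this ha)
  rw [hmi, hg y] at h1
  have h2 := cp_other O h1 hij
  rw [cp_add, cp_add, cp_smul, cp_smul, cp_other O hy hij, cp_self O hb, cp_other O ha hij, smul_zero,
    zero_add, add_zero, smul_eq_zero] at h2
  rcases h2 with h | h
  · exact hay h
  · exact hRb (by rw [h, QuadraticMap.map_zero])

end CfsgLib.MaxSub.OrthBlocks
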