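import Cfsg.Agent.Lib.MaxSub.OrthBlocks.Close

/-!
Blocks of dimension at least four in characteristic two.
-/

set_option autoImplicit false
set_option maxHeartbeats 400000
set_option linter.unusedSectionVars false

namespace CfsgLib.MaxSub.OrthBlocks

open Module Cfsg Cfsg.Geo
open CfsgLib.Eichler (Sieg IsEich exists_eich)
open CfsgLib.WittExtension (quadIso)
open CfsgLib.MaxSub.Orth (InA)
open CfsgLib.MaxSub.OrthWreath (W)
open QuadraticMap (polar polarBilin)

variable {F : Type*} [Field F] [Fintype F] {ι : Type} [Fintype ι] [DecidableEq ι] {t k : ℕ}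
  {R : QuadraticForm F (ι → F)} {D : Fin t → Submodule F (ι → F)}
  {K : Subgroup (quadIso R)}

local notation "V" => (ι → F)

/-- The setting in characteristic two. -/
structure T4 (R : QuadraticForm F (ι → F)) (k : ℕ) (D : Fin t → Submodule F (ι → F)) : Prop where
  bd : BD R k D
  four : 4 ≤ k
  two : (2 : F) = 0
  notPlus : Fintype.card F = 2 → k = 4 → ∀ i, ¬ IsPlusTypeOn (⇑R) (D i)

theorem T4.isotropic (S : T4 R k D) (x : V) : polar R x x = 0 := by
  rw [QuadraticMap.polar_self, nsmul_eq_mul, Nat.cast_ofNat, S.two, zero_mul]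

theorem T4.neg_eq (S : T4 R k D) (z : F) : -z = z := by linear_combination (-z) * S.two

/-- Isotropic subspaces of a block are small. -/
theorem two_mul_iso_le (O : BD R k D) {i : Fin t} {U : Submodule F V} (hU : U ≤ D i)
    (h : ∀ x ∈ U, ∀ y ∈ U, polar R x y = 0) : 2 * finrank F U ≤ k := by
  have hn := Orth.nondeg_comp (block_nd O i)
  set U' : Submodule F (D i) := Submodule.comap (D i).subtype U with hU'
  have e : finrank F U' = finrank F U :=
    LinearEquiv.finrank_eq (Submodule.comapSubtypeEquivOfLe hU)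
  have h1 := Orth.finrank_orth hn U'
  have h2 := Submodule.finrank_mono (show U' ≤ Orth.orth (R.comp (D i).subtype) U' from
    fun x hx y hy => by
      show polar (R.comp (D i).subtype) y x = 0
      have := h y.1 hy x.1 hx
      simpa [polar] using this)
  rw [O.rank] at h1
  omega

theorem nonperp_pair (O : BD R k D) (h4 : 4 ≤ k) {i : Fin t} (φ : V →ₗ[F] F) :
    ∃ a ∈ D i, ∃ b ∈ D i, φ a = 0 ∧ φ b = 0 ∧ polar R a b ≠ 0 := by
  by_contra h
  push Not at h
  have h1 := two_mul_iso_le O (i := i) (U := D i ⊓ LinearMap.ker φ) inf_le_left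
    fun x hx y hy => h x hx.1 y hy.1 hx.2 hy.2
  have h2 := Orth.finrank_inf_ker (D i) φ
  rw [O.rank] at h2
  omega

/-- The non-singular vectors span a block. -/
theorem T4.span_ns (S : T4 R k D) {i : Fin t} {U : Submodule F V}
    (hU : ∀ x ∈ D i, R x ≠ 0 → x ∈ U) : D i ≤ U := by
  by_contra hne
  obtain ⟨y, hy, hyU⟩ := SetLike.not_le_iff_exists.1 hne
  have O := S.bd
  have hy0 : R y = 0 := by_contra fun h => hyU (hU y hy h)
  have hiso : ∀ x ∈ D i ⊓ U, ∀ x' ∈ D i ⊓ U, polar R x x' = 0 := by
    have hlin : ∀ x ∈ D i ⊓ U, R x + polar R y x = 0 := fun x hx => by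
      by_contra h
      refine hyU ?_
      have h1 : R (y + x) ≠ 0 := by rw [QuadraticMap.map_add R, hy0, zero_add]; exact h
      simpa using U.sub_mem (hU _ ((D i).add_mem hy hx.1) h1) hx.2
    intro x hx x' hx'
    have e := hlin _ ((D i ⊓ U).add_mem hx hx')
    rw [QuadraticMap.map_add R, QuadraticMap.polar_add_right] at e
    linear_combination e - hlin x hx - hlin x' hx'
  have hdim := two_mul_iso_le O (i := i) inf_le_left hiso
  obtain ⟨w, hw, hyw⟩ : ∃ w ∈ D i, polar R y w ≠ 0 := by
    by_contra h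
    push Not at h
    exact hyU (by rw [block_nd O i y hy h]; exact U.zero_mem)
  obtain ⟨U', hU'⟩ : ∃ U', U' = (D i ⊓ U) ⊔ Submodule.span F {y} := ⟨_, rfl⟩
  have hle : finrank F U' ≤ finrank F ↥(D i ⊓ U) + 1 := by
    rw [hU']
    refine le_trans (Submodule.finrank_add_le_finrank_add_finrank _ _) ?_
    rw [finrank_span_singleton fun e => hyU (by rw [e]; exact U.zero_mem)]
  have hnle : ¬ D i ≤ U' := fun h => by
    have := Submodule.finrank_mono h
    rw [O.rank] at this
    have := S.four
    omega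
  obtain ⟨z, hz, hzU⟩ := SetLike.not_le_iff_exists.1 hnle
  have hout : ∀ x ∈ D i, x ∉ U' → polar R y x = 0 := by
    intro x hx hxU
    have h1 : x ∉ U := fun h => hxU (hU' ▸ Submodule.mem_sup_left ⟨hx, h⟩)
    have hx0 : R x = 0 := by_contra fun h => h1 (hU x hx h)
    by_contra hp
    have h2 : R (y + x) ≠ 0 := by rw [QuadraticMap.map_add R, hy0, hx0, zero_add, zero_add]; exact hp
    refine hxU ?_
    have hyU' : y ∈ U' := hU' ▸ Submodule.mem_sup_right (Submodule.mem_span_singleton_self y)
    have hm : y + x ∈ U' := hU' ▸ Submodule.mem_sup_left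
      ⟨(D i).add_mem hy hx, hU _ ((D i).add_mem hy hx) h2⟩
    simpa using U'.sub_mem hm hyU'
  refine hyw ?_
  by_cases hwU : w ∈ U'
  · have h1 := hout (w + z) ((D i).add_mem hw hz) fun h => hzU (by simpa using U'.sub_mem h hwU)
    rwa [QuadraticMap.polar_add_right, hout z hz hzU, add_zero] at h1
  · exact hout w hw hwU

theorem T4.exists_ns_polar (S : T4 R k D) {i : Fin t} {x : V} (hx : x ∈ D i) (hx0 : x ≠ 0) :
    ∃ a ∈ D i, R a ≠ 0 ∧ polar R x a ≠ 0 := by
  by_contra h
  push Not at h
  exact hx0 (block_nd S.bd i x hx fun y hy =>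
    S.span_ns (U := LinearMap.ker (polarBilin R x)) (fun a ha haR => h a ha haR) hy)

theorem T4.exists_ns (S : T4 R k D) (i : Fin t) : ∃ a ∈ D i, R a ≠ 0 := by
  by_contra h
  push Not at h
  have h1 := two_mul_iso_le S.bd (i := i) (U := D i) le_rfl
    fun x hx y hy => Orth.polar_eq_zero_of_sing h hx hy
  rw [S.bd.rank] at h1
  have := S.four
  omega

theorem T4.conn (S : T4 R k D) : Conn R D := by
  classical
  have O := S.bd
  intro g hg c hc
  have hsq : ∀ x : F, IsSquare x := fun x => by
    obtain ⟨s, hs⟩ := FiniteForms.sqrt_charTwo S.two x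
    exact ⟨s, hs⟩
  by_contra hno
  push Not at hno
  refine hg fun i => ?_
  have hblk : ∀ a ∈ D i, R a ≠ 0 → Blk D (g.1 a) := fun a ha h => hno i a ha h (hsq _)
  obtain ⟨a, ha, haR⟩ := S.exists_ns i
  obtain ⟨j, hj⟩ := hblk a ha haR
  refine ⟨j, fun x hx => S.span_ns (U := (D j).comap (g.1 : V →ₗ[F] V)) (fun b hb hbR => ?_) hx⟩
  -- two non-singular vectors go to one block
  have step : ∀ {a b : V} {p : Fin t}, a ∈ D i → b ∈ D i → g.1 a ∈ D p → R b ≠ 0 →
      (∃ s : F, s ≠ 0 ∧ R (a + s • b) ≠ 0) → a ≠ 0 → g.1 b ∈ D p := by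
    intro a b p ha hb hp hbR ⟨s, hs, hsR⟩ ha0
    obtain ⟨p', hp'⟩ := hblk b hb hbR
    by_contra hne
    have hpp : p ≠ p' := fun e => hne (e ▸ hp')
    obtain ⟨m, hm⟩ := hblk _ ((D i).add_mem ha ((D i).smul_mem s hb)) hsR
    refine not_blk O hpp ?_ ?_ ⟨m, hm⟩
    · rw [map_add, map_smul, cp_add, cp_smul, cp_self O hp, cp_other O hp' hpp.symm, smul_zero, add_zero]
      exact fun e => ha0 (g.1.map_eq_zero_iff.1 e)
    · rw [map_add, map_smul, cp_add, cp_smul, cp_other O hp hpp, cp_self O hp', zero_add]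
      exact smul_ne_zero hs fun e => hbR (by rw [g.1.map_eq_zero_iff.1 e, QuadraticMap.map_zero])
  have hne0 : ∀ {x : V}, R x ≠ 0 → x ≠ 0 := fun {x} h e => h (by rw [e, QuadraticMap.map_zero])
  show g.1 b ∈ D j
  by_cases hdir : ∃ s : F, s ≠ 0 ∧ R (a + s • b) ≠ 0
  · exact step ha hb hj hbR hdir (hne0 haR)
  push Not at hdir
  -- only two elements, perpendicular vectors
  have hq : Fintype.card F = 2 := by
    by_contra hq
    have hone := Fintype.one_lt_card (α := F)
    obtain ⟨s, hs0, hs1⟩ : ∃ s : F, s ≠ 0 ∧ s ≠ 1 := by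
      by_contra h
      push Not at h
      have hsub : (Finset.univ : Finset F) ⊆ {0, 1} := fun s _ => by
        by_cases h0 : s = 0
        · simp [h0]
        · simp [h s h0]
      have h1 := Finset.card_le_card hsub
      have h2 := Finset.card_le_two (a := (0 : F)) (b := 1)
      rw [Finset.card_univ] at h1
      omega
    have hexp : ∀ r : F, R (a + r • b) = R a + r * r * R b + r * polar R a b := fun r => by
      rw [QuadraticMap.map_add R, QuadraticMap.map_smul, QuadraticMap.polar_smul_right]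
      simp only [smul_eq_mul]
    have f1 := hexp 1
    rw [hdir 1 one_ne_zero] at f1
    have f2 := hexp s
    rw [hdir s hs0] at f2
    -- the product of the roots is `R a / R b`
    have f3 : (s - 1) * (s * R b - R a) = 0 := by linear_combination s * f1 - f2
    have hs : s * R b = R a := sub_eq_zero.1 ((mul_eq_zero.1 f3).resolve_left (sub_ne_zero.2 hs1))
    obtain ⟨r, hr0, hr1, hrs⟩ : ∃ r : F, r ≠ 0 ∧ r ≠ 1 ∧ r ≠ s := by
      by_contra h
      push Not at h
      have hsub : (Finset.univ : Finset F) ⊆ {0, 1, s} := fun r _ => by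
        by_cases h0 : r = 0
        · simp [h0]
        by_cases h1 : r = 1
        · simp [h1]
        simp [h r h0 h1]
      have h1 := Finset.card_le_card hsub
      have h2 := Finset.card_le_three (a := (0 : F)) (b := 1) (c := s)
      rw [Finset.card_univ] at h1
      obtain ⟨n, hn⟩ : Even (Fintype.card F) := by
        rw [← Nat.not_odd_iff_even]
        intro hodd
        exact FiniteForms.two_ne_zero_of_odd (F := F) rfl hodd S.two
      omega
    have f4 := hexp r
    rw [hdir r hr0] at f4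
    have f5 : (r - 1) * (r * R b - R a) = 0 := by linear_combination r * f1 - f4
    have hr := sub_eq_zero.1 ((mul_eq_zero.1 f5).resolve_left (sub_ne_zero.2 hr1))
    exact hrs (mul_right_cancel₀ hbR (hr.trans hs.symm))
  have hone : ∀ u : F, u ≠ 0 → u = 1 := fun u hu => by
    have := Finset.card_le_univ ({0, 1, u} : Finset F)
    by_contra h1
    rw [Finset.card_insert_of_notMem (by simp [hu.symm]), Finset.card_pair (Ne.symm h1)] at this
    omega
  have hab : polar R a b = 0 := by
    have h := hdir 1 one_ne_zero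
    rw [one_smul, QuadraticMap.map_add R, hone _ haR, hone _ hbR] at h
    linear_combination h - S.two
  by_cases heq : a = b
  · exact heq ▸ hj
  obtain ⟨c₀, hc₀, hc₀a, hc₀b⟩ : ∃ c₀ ∈ D i, polar R a c₀ ≠ 0 ∧ polar R b c₀ ≠ 0 := by
    obtain ⟨y, hy, -, hay⟩ := S.exists_ns_polar ha (hne0 haR)
    by_cases h1 : polar R b y = 0
    swap
    · exact ⟨y, hy, hay, h1⟩
    obtain ⟨y', hy', -, hby'⟩ := S.exists_ns_polar hb (hne0 hbR)
    by_cases h2 : polar R a y' = 0
    swap
    · exact ⟨y', hy', h2, hby'⟩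
    exact ⟨y + y', (D i).add_mem hy hy',
      by rw [QuadraticMap.polar_add_right, h2, add_zero]; exact hay,
      by rw [QuadraticMap.polar_add_right, h1, zero_add]; exact hby'⟩
  by_cases hmid : ∃ c ∈ D i, polar R a c ≠ 0 ∧ polar R b c ≠ 0 ∧ R c ≠ 0
  · obtain ⟨c, hc', hac, hbc, hcR⟩ := hmid
    have hd : ∀ {x : V}, R x ≠ 0 → polar R x c ≠ 0 → R (x + (1 : F) • c) ≠ 0 := fun {x} hx hxc => by
      rw [one_smul, QuadraticMap.map_add R, hone _ hx, hone _ hxc, hone _ hcR]
      intro h
      exact one_ne_zero (α := F) (by linear_combination h - S.two)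
    have h1 : g.1 c ∈ D j := step ha hc' hj hcR ⟨1, one_ne_zero, hd haR hac⟩ (hne0 haR)
    refine step hc' hb h1 hbR ⟨1, one_ne_zero, ?_⟩ (hne0 hcR)
    have h := hd hbR hbc
    rw [one_smul, add_comm] at h
    rwa [one_smul]
  push Not at hmid
  exfalso
  have hc₀R := hmid c₀ hc₀ hc₀a hc₀b
  -- the coset of the perpendicular of the pair is totally singular
  set W' := D i ⊓ LinearMap.ker (polarBilin R a) ⊓ LinearMap.ker (polarBilin R b) with hW'
  have hiso : ∀ x ∈ W', ∀ y ∈ W', polar R x y = 0 := by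
    have hl : ∀ x ∈ W', R x + polar R c₀ x = 0 := fun x hx => by
      have h := hmid (c₀ + x) ((D i).add_mem hc₀ hx.1.1)
        (by rw [QuadraticMap.polar_add_right, show polar R a x = 0 from hx.1.2, add_zero]; exact hc₀a)
        (by rw [QuadraticMap.polar_add_right, show polar R b x = 0 from hx.2, add_zero]; exact hc₀b)
      rwa [QuadraticMap.map_add R, hc₀R, zero_add] at h
    intro x hx y hy
    have e := hl _ (W'.add_mem hx hy)
    rw [QuadraticMap.map_add R, QuadraticMap.polar_add_right] at e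
    linear_combination e - hl x hx - hl y hy
  have hd1 := two_mul_iso_le O (i := i) (inf_le_left.trans inf_le_left) hiso
  have hd2 := Orth.finrank_inf_ker (D i) (polarBilin R a)
  have hd3 := Orth.finrank_inf_ker (D i ⊓ LinearMap.ker (polarBilin R a)) (polarBilin R b)
  replace hd3 : finrank F ↥(D i ⊓ LinearMap.ker (polarBilin R a)) ≤ finrank F W' + 1 := hd3
  replace hd1 : 2 * finrank F W' ≤ k := hd1
  rw [O.rank] at hd2
  have hk4 : k = 4 := by have := S.four; omega
  obtain ⟨z, hz⟩ : ∃ z, z = a + b := ⟨_, rfl⟩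
  have hzR : R z = 0 := by
    rw [hz, QuadraticMap.map_add R, hab, hone _ haR, hone _ hbR]; linear_combination S.two
  have hzc : polar R z c₀ = 0 := by
    rw [hz, QuadraticMap.polar_add_left, hone _ hc₀a, hone _ hc₀b]; linear_combination S.two
  have haz : polar R a z = 0 := by rw [hz, QuadraticMap.polar_add_right, S.isotropic, hab, add_zero]
  have hz0 : z ≠ 0 := fun e => heq (by
    rw [hz, add_eq_zero_iff_eq_neg, ← neg_one_smul F b, S.neg_eq, one_smul] at e
    exact e)
  refine S.notPlus hq hk4 i ⟨Submodule.span F {z, c₀}, Submodule.span_le.2 ?_, fun w hw => ?_, ?_⟩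
  · rintro w (rfl | rfl)
    · exact hz ▸ (D i).add_mem ha hb
    · exact hc₀
  · obtain ⟨α, β, rfl⟩ := Submodule.mem_span_pair.1 hw
    rw [QuadraticMap.map_add R, QuadraticMap.map_smul, QuadraticMap.map_smul, hzR, hc₀R,
      QuadraticMap.polar_smul_left, QuadraticMap.polar_smul_right, hzc]
    simp
  · have hli : LinearIndependent F ![z, c₀] := by
      rw [LinearIndependent.pair_iff]
      intro s r hsr
      have h := congrArg (polar R a) hsr
      rw [QuadraticMap.polar_add_right, QuadraticMap.polar_smul_right, QuadraticMap.polar_smul_right,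
        haz, QuadraticMap.polar_zero_right, smul_zero, zero_add, smul_eq_mul] at h
      have hr := (mul_eq_zero.1 h).resolve_right hc₀a
      rw [hr, zero_smul, add_zero, smul_eq_zero] at hsr
      exact ⟨hsr.resolve_right hz0, hr⟩
    have hfr := finrank_span_eq_card hli
    rw [Matrix.range_cons, Matrix.range_cons, Matrix.range_empty, Set.union_empty,
      Set.singleton_union, Fintype.card_fin] at hfr
    rw [hfr, O.rank, hk4]

/-- A root element at a block with a vector of several blocks. -/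
theorem T4.wit (S : T4 R k D) (hK : Ov R D K) {g : quadIso R} (hgK : g ∈ K) (hg : ¬ Mono D g) :
    ∃ (l : Fin t) (e u : V) (he : R e = 0), e ∈ D l ∧ e ≠ 0 ∧ u ∈ W K e he ∧ u ∉ D l := by
  classical
  have O := S.bd
  have hII : II D K := by
    obtain ⟨i, a, ha, haR, -, hna⟩ := S.conn g hg 1 one_ne_zero
    have ha0 : a ≠ 0 := fun e => haR (by rw [e, QuadraticMap.map_zero])
    obtain ⟨a', ha', ha'R, haa'⟩ := S.exists_ns_polar ha ha0
    have hsq : IsSquare (R a * R a') := by
      obtain ⟨s, hs⟩ := FiniteForms.sqrt_charTwo S.two (R a * R a')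
      exact ⟨s, hs⟩
    have hP := (pr_block O hK ha ha' haR ha'R hsq).map hgK
    obtain ⟨v, hv⟩ : ∃ v, v = g.1 a := ⟨_, rfl⟩
    obtain ⟨w, hw⟩ : ∃ w, w = g.1 a' := ⟨_, rfl⟩
    rw [← hv, ← hw] at hP
    have hvw : polar R v w ≠ 0 := by rw [hv, hw, OrthOrder.polar_map g.2]; exact haa'
    have hind : ∀ s : F, v ≠ s • w := fun s e => hvw (by
      rw [e, QuadraticMap.polar_smul_left, S.isotropic, smul_zero])
    obtain ⟨l, b, hb, hbR, hvb, hwb⟩ : ∃ l, ∃ b ∈ D l, R b ≠ 0 ∧ polar R v b = 0 ∧ polar R w b = 0 := by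
      by_contra hno
      push Not at hno
      refine hP.1 ?_
      rw [map_cp O v]
      refine Finset.sum_eq_zero fun l _ => ?_
      obtain ⟨U, hU⟩ : ∃ U, U = D l ⊓ LinearMap.ker (polarBilin R v) ⊓ LinearMap.ker (polarBilin R w) :=
        ⟨_, rfl⟩
      have hmem : ∀ x, x ∈ U ↔ (x ∈ D l ∧ polar R v x = 0) ∧ polar R w x = 0 := fun x => by
        rw [hU]; rfl
      have hs : ∀ x ∈ U, R x = 0 := fun x hx => by_contra fun h =>
        hno l x ((hmem x).1 hx).1.1 h ((hmem x).1 hx).1.2 ((hmem x).1 hx).2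
      have hle : U ≤ D l := fun x hx => ((hmem x).1 hx).1.1
      have hd1 := two_mul_iso_le O hle fun x hx y hy => Orth.polar_eq_zero_of_sing hs hx hy
      have hd2 := Orth.finrank_inf_ker (D l) (polarBilin R v)
      have hd3 := Orth.finrank_inf_ker (D l ⊓ LinearMap.ker (polarBilin R v)) (polarBilin R w)
      rw [← hU] at hd3
      rw [O.rank] at hd2
      by_contra hne
      have hnot : cp O v l ∉ U := fun h => hne (hs _ h)
      have hle' : U ⊔ Submodule.span F {cp O v l} ≤ D l :=
        sup_le hle ((Submodule.span_singleton_le_iff_mem _ _).2 (cp_mem O v l))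
      have hiso : ∀ x ∈ U ⊔ Submodule.span F {cp O v l}, ∀ y ∈ U ⊔ Submodule.span F {cp O v l},
          polar R x y = 0 := by
        intro x hx y hy
        obtain ⟨x₁, hx₁, x₂, hx₂, rfl⟩ := Submodule.mem_sup.1 hx
        obtain ⟨y₁, hy₁, y₂, hy₂, rfl⟩ := Submodule.mem_sup.1 hy
        obtain ⟨s, rfl⟩ := Submodule.mem_span_singleton.1 hx₂
        obtain ⟨r, rfl⟩ := Submodule.mem_span_singleton.1 hy₂
        have hp : ∀ z ∈ U, polar R (cp O v l) z = 0 := fun z hz => by
          rw [cp_polar O v (hle hz)]; exact ((hmem z).1 hz).1.2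
        rw [QuadraticMap.polar_add_left, QuadraticMap.polar_add_right, QuadraticMap.polar_add_right,
          Orth.polar_eq_zero_of_sing hs hx₁ hy₁, QuadraticMap.polar_smul_left,
          QuadraticMap.polar_smul_left, QuadraticMap.polar_smul_right, QuadraticMap.polar_smul_right,
          QuadraticMap.polar_comm R x₁, hp x₁ hx₁, hp y₁ hy₁, S.isotropic]
        simp
      have hd4 := two_mul_iso_le O hle' hiso
      have hlt : finrank F U < finrank F ↥(U ⊔ Submodule.span F {cp O v l}) :=
        Submodule.finrank_lt_finrank_of_lt (lt_of_le_of_ne le_sup_left fun e =>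
          hnot (e ▸ Submodule.mem_sup_right (Submodule.mem_span_singleton_self _)))
      have := S.four
      omega
    refine ii_of_fix O hK S.conn hP.2.2.2 (fun hm => ?_) hb hbR ?_
    · obtain ⟨p, q, hvp, -, hspec⟩ := pair_mono O hP.1 hP.2.1 hind hm
      rcases hspec (by have := S.four; omega) with h | ⟨x, hx, y, hy, hpq, hv', hw'⟩
      · subst h
        exact hna (hv ▸ ⟨p, by rwa [sup_idem] at hvp⟩)
      · obtain ⟨α, β, e1⟩ := Submodule.mem_span_pair.1 hv'
        obtain ⟨γ, δ, e2⟩ := Submodule.mem_span_pair.1 hw'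
        refine hvw ?_
        rw [← e1, ← e2]
        simp [QuadraticMap.polar_add_left, QuadraticMap.polar_add_right, QuadraticMap.polar_smul_left,
          QuadraticMap.polar_smul_right, S.isotropic, block_perp O hpq hx hy,
          block_perp O hpq.symm hy hx]
    · show (rr R v).1 ((rr R w).1 b) = b
      rw [rr_perp hwb, rr_perp hvb]
  obtain ⟨a, u, ⟨i, ha⟩, hu, hP⟩ := hII
  obtain ⟨l, hl⟩ : ∃ l, R (cp O u l) ≠ 0 := by
    by_contra hno
    push Not at hno
    exact hP.2.1 (by rw [map_cp O u]; exact Finset.sum_eq_zero fun l _ => hno l)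
  have hdim := Orth.finrank_inf_ker (D l) (polarBilin R u)
  rw [O.rank] at hdim
  obtain ⟨e, he, he0, hee⟩ := Orth.exists_singular_in (Q := R)
    (S := D l ⊓ LinearMap.ker (polarBilin R u)) (by have := S.four; omega)
  have hue : polar R u e = 0 := he.2
  obtain ⟨x, hx, hex, hxu⟩ : ∃ x ∈ D l, polar R e x = 0 ∧ polar R x u = -1 := by
    obtain ⟨x, hx, hex, hxu⟩ : ∃ x ∈ D l, polar R e x = 0 ∧ polar R (cp O u l) x ≠ 0 := by
      by_contra hno
      push Not at hno
      obtain ⟨z, hz, hze⟩ : ∃ z ∈ D l, polar R e z ≠ 0 := by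
        by_contra h
        push Not at h
        exact he0 (block_nd O l e he.1 h)
      have h0 : cp O u l - (polar R (cp O u l) z / polar R e z) • e = 0 :=
        block_nd O l _ ((D l).sub_mem (cp_mem O u l) ((D l).smul_mem _ he.1)) fun y hy => by
          have h1 := hno (y - (polar R e y / polar R e z) • z) ((D l).sub_mem hy ((D l).smul_mem _ hz))
            (by rw [QuadraticMap.polar_sub_right, QuadraticMap.polar_smul_right, smul_eq_mul,
              div_mul_cancel₀ _ hze, sub_self])
          rw [QuadraticMap.polar_sub_right, QuadraticMap.polar_smul_right, smul_eq_mul] at h1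
          rw [QuadraticMap.polar_sub_left, QuadraticMap.polar_smul_left, smul_eq_mul]
          linear_combination h1
      exact hl (by rw [sub_eq_zero.1 h0, QuadraticMap.map_smul, hee, smul_zero])
    refine ⟨(-(polar R (cp O u l) x)⁻¹) • x, (D l).smul_mem _ hx,
      by rw [QuadraticMap.polar_smul_right, hex, smul_zero], ?_⟩
    rw [QuadraticMap.polar_smul_left, QuadraticMap.polar_comm R x u, ← cp_polar O u hx, smul_eq_mul,
      neg_mul, inv_mul_cancel₀ hxu]
  refine ⟨l, e, u, hee, he.1, he0, ⟨by rw [QuadraticMap.polar_comm]; exact hue, fun s => ?_⟩,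
    fun h => hu ⟨l, h⟩⟩
  obtain ⟨r, hr⟩ : ∃ r : F, r = s * R u := ⟨_, rfl⟩
  have herx : polar R e (r • x) = 0 := by rw [QuadraticMap.polar_smul_right, hex, smul_zero]
  obtain ⟨h, hh⟩ := exists_eich R hee herx
  have hhm : Mono D h := fun p => ⟨p, fun y hy => by
    rw [hh y]
    by_cases hpl : l = p
    · subst hpl
      exact (D l).add_mem hy ((D l).add_mem ((D l).smul_mem _ ((D l).smul_mem _ hx))
        ((D l).smul_mem _ he.1))
    · rw [block_perp O hpl he.1 hy, QuadraticMap.polar_smul_left, block_perp O hpl hx hy]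
      simpa using hy⟩
  have hhK : h ∈ K := hK h (OmegaSimple.eich_mem R O.nd O.hdim he0 hee herx hh) hhm
  have hval : h.1 u = u + r • e := by
    rw [hh u, QuadraticMap.polar_comm R e u, hue, QuadraticMap.polar_smul_left, hxu]
    simp
  have h2 := hP.map_mono O hK ha hhK hhm
  rw [hval] at h2
  have h3 := eich_pair hP.2.1 hee hue (hP.symm.trans h2).2.2.2
  rwa [hr, mul_div_cancel_right₀ _ hP.2.1] at h3

/-- Singular vectors span the blocks. -/
theorem exists_sing_ne (O : BD R k D) (h4 : 4 ≤ k) (i : Fin t) (φ : V →ₗ[F] F)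
    (h : ∃ y ∈ D i, φ y ≠ 0) : ∃ x ∈ D i, R x = 0 ∧ φ x ≠ 0 := by
  by_contra hc
  push Not at hc
  obtain ⟨y, hy, hy0⟩ := h
  obtain ⟨e, he, he0, hee⟩ := Orth.exists_singular_in (Q := R) (S := D i) (by rw [O.rank]; omega)
  obtain ⟨f', hf', hef⟩ := Eichler.exists_partner (R.comp (D i).subtype)
    (Orth.nondeg_comp (block_nd O i)) (e := ⟨e, he⟩) (fun h => he0 (congrArg Subtype.val h)) hee
  have hff : R (f' : V) = 0 := hf'
  have hef' : polar R e (f' : V) = 1 := by rw [← hef]; simp [polar]
  set p := y - polar R y (f' : V) • e - polar R y e • (f' : V) with hp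
  have hpe : polar R p e = 0 := by
    rw [hp]
    simp [QuadraticMap.polar_sub_left, QuadraticMap.polar_self, hee, QuadraticMap.polar_comm R
      (f' : V) e, hef']
  have hpf : polar R p (f' : V) = 0 := by
    rw [hp]
    simp [QuadraticMap.polar_sub_left, QuadraticMap.polar_self, hff, hef']
  have hpD : p ∈ D i := (D i).sub_mem ((D i).sub_mem hy ((D i).smul_mem _ he))
    ((D i).smul_mem _ f'.2)
  have hs : R (p + (-(R p)) • e + (f' : V)) = 0 := by
    simp [QuadraticMap.map_add R, QuadraticMap.map_smul, QuadraticMap.polar_add_left, hee, hff, hpe,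
      hpf, hef']
  have h1 := hc _ ((D i).add_mem ((D i).add_mem hpD ((D i).smul_mem _ he)) f'.2) hs
  rw [map_add, map_add, map_smul, hc e he hee, hc _ f'.2 hff, smul_zero, add_zero, add_zero] at h1
  refine hy0 ?_
  rw [hp, map_sub, map_sub, map_smul, map_smul, hc e he hee, hc _ f'.2 hff] at h1
  simpa using h1

theorem eich_block (O : BD R k D) (hK : Ov R D K) {j : Fin t} {e a : V} (he : e ∈ D j) (ha : a ∈ D j)
    (he0 : e ≠ 0) (hee : R e = 0) (hea : polar R e a = 0) : a ∈ W K e hee := by
  refine ⟨hea, fun s g hg => hK g (OmegaSimple.eich_mem R O.nd O.hdim he0 hee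
    (by rw [QuadraticMap.polar_smul_right, hea, smul_zero]) hg) fun p => ⟨p, fun y hy => ?_⟩⟩
  rw [hg y]
  by_cases hjp : j = p
  · subst hjp
    exact (D j).add_mem hy ((D j).add_mem ((D j).smul_mem _ ((D j).smul_mem _ ha))
      ((D j).smul_mem _ he))
  · rw [block_perp O hjp he hy, QuadraticMap.polar_smul_left, block_perp O hjp ha hy]
    simpa using hy

/-- A vector of another block in `W` brings the whole block. -/
theorem grow (O : BD R k D) (h4 : 4 ≤ k) (hK : Ov R D K) {i : Fin t} {d y : V} (hd : R d = 0)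
    (hdi : d ∈ D i) (hy : y ∈ W K d hd) {l : Fin t} (hl : l ≠ i) (hyl : cp O y l ≠ 0) :
    D l ≤ W K d hd := by
  obtain ⟨e, he, hee, hey⟩ := exists_sing_ne O h4 l (polarBilin R (cp O y l)) (by
    by_contra h
    push Not at h
    exact hyl (block_nd O l _ (cp_mem O y l) h))
  have hey' : polar R e y ≠ 0 := by
    rw [QuadraticMap.polar_comm, ← cp_polar O y he]; exact hey
  have hsing : ∀ e ∈ D l, R e = 0 → polar R e y ≠ 0 →
      e ∈ W K d hd ∧ ∀ x ∈ D l, polar R e x = 0 → x ∈ W K d hd := by
    intro e he hee hey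
    have he0 : e ≠ 0 := fun h => hey (by rw [h, QuadraticMap.polar_zero_left])
    have hconj : ∀ x ∈ D l, polar R e x = 0 →
        polar R e y • x + (-(polar R x y) - R x * polar R e y) • e ∈ W K d hd := by
      intro x hx hex
      obtain ⟨g, hg⟩ := exists_eich R hee hex
      have hgK : g ∈ K := by
        have := (eich_block O hK he hx he0 hee hex).2 1
        rw [one_smul] at this
        exact this g hg
      have hfix : g.1 d = d := by
        rw [hg d, block_perp O hl he hdi, block_perp O hl hx hdi]; simp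
      have := (W K d hd).sub_mem (OrthWreath.mem_map hy hgK hd hfix) hy
      rwa [hg y, add_sub_cancel_left] at this
    obtain ⟨a, ha, b, hb, hea, heb, hab⟩ := nonperp_pair O h4 (i := l) (polarBilin R e)
    have hea' : polar R e a = 0 := hea
    have heb' : polar R e b = 0 := heb
    have heW : e ∈ W K d hd := by
      have h := (W K d hd).sub_mem ((W K d hd).add_mem (hconj a ha hea') (hconj b hb heb'))
        (hconj (a + b) ((D l).add_mem ha hb)
          (by rw [QuadraticMap.polar_add_right, hea', heb', add_zero]))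
      rw [QuadraticMap.polar_add_left, QuadraticMap.map_add R,
        show polar R e y • a + (-polar R a y - R a * polar R e y) • e +
            (polar R e y • b + (-polar R b y - R b * polar R e y) • e) -
          (polar R e y • (a + b) + (-(polar R a y + polar R b y) -
            (R a + R b + polar R a b) * polar R e y) • e) = (polar R a b * polar R e y) • e by module]
        at h
      exact ((W K d hd).smul_mem_iff (mul_ne_zero hab hey)).1 h
    refine ⟨heW, fun x hx hex => ?_⟩
    have h := (W K d hd).sub_mem (hconj x hx hex)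
      ((W K d hd).smul_mem (-(polar R x y) - R x * polar R e y) heW)
    rw [add_sub_cancel_right] at h
    exact ((W K d hd).smul_mem_iff hey).1 h
  have he0 : e ≠ 0 := fun h => hey' (by rw [h, QuadraticMap.polar_zero_left])
  obtain ⟨f', hf', hef⟩ := Eichler.exists_partner (R.comp (D l).subtype)
    (Orth.nondeg_comp (block_nd O l)) (e := ⟨e, he⟩) (fun h => he0 (congrArg Subtype.val h)) hee
  have hef' : polar R e (f' : V) = 1 := by rw [← hef]; simp [polar]
  have hff : R (f' : V) = 0 := hf'
  obtain ⟨e', he', hee', hee1, he'y⟩ : ∃ e' ∈ D l, R e' = 0 ∧ polar R e e' ≠ 0 ∧ polar R e' y ≠ 0 := by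
    by_cases hfy : polar R (f' : V) y = 0
    swap
    · exact ⟨f', f'.2, hff, by rw [hef']; exact one_ne_zero, hfy⟩
    by_contra hno
    push Not at hno
    have hval : ∀ x ∈ D l, polar R e x = 0 →
        polar R x y + (-(polar R x (f' : V)) - R x) * polar R e y = 0 := by
      intro x hx hex
      obtain ⟨g, hg⟩ := exists_eich R hee hex
      have hgf : g.1 (f' : V) = (f' : V) + (x + (-(polar R x (f' : V)) - R x) • e) := by
        rw [hg, hef', one_smul, mul_one]
      have h := hno (g.1 (f' : V)) (by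
          rw [hgf]; exact (D l).add_mem f'.2 ((D l).add_mem hx ((D l).smul_mem _ he)))
        ((g.2 _).trans hff) (by
          rw [hgf, QuadraticMap.polar_add_right, QuadraticMap.polar_add_right,
            QuadraticMap.polar_smul_right, hef', hex, QuadraticMap.polar_self, hee]
          simp)
      rw [hgf, QuadraticMap.polar_add_left, QuadraticMap.polar_add_left, QuadraticMap.polar_smul_left,
        hfy, zero_add, smul_eq_mul] at h
      exact h
    obtain ⟨a, ha, b, hb, hea, heb, hab⟩ := nonperp_pair O h4 (i := l) (polarBilin R e)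
    have hea' : polar R e a = 0 := hea
    have heb' : polar R e b = 0 := heb
    have h3 := hval (a + b) ((D l).add_mem ha hb)
      (by rw [QuadraticMap.polar_add_right, hea', heb', add_zero])
    rw [QuadraticMap.polar_add_left, QuadraticMap.polar_add_left, QuadraticMap.map_add R] at h3
    exact mul_ne_zero hab hey' (by linear_combination hval a ha hea' + hval b hb heb' - h3)
  intro x hx
  have h1 := (hsing e he hee hey').2 (x - (polar R e x / polar R e e') • e')
    ((D l).sub_mem hx ((D l).smul_mem _ he')) (by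
      rw [QuadraticMap.polar_sub_right, QuadraticMap.polar_smul_right, smul_eq_mul,
        div_mul_cancel₀ _ hee1, sub_self])
  simpa using (W K d hd).add_mem h1
    ((W K d hd).smul_mem (polar R e x / polar R e e') (hsing e' he' hee' he'y).1)

/-- An element moving the blocks gives the derived group. -/
theorem T4.omega_le (S : T4 R k D) (hK : Ov R D K) {g : quadIso R} (hgK : g ∈ K) (hg : ¬ Mono D g) :
    Subgroup.closure (Sieg R) ≤ K := by
  classical
  have O := S.bd
  have h4 := S.four
  obtain ⟨i₀, d₀, u, hd₀, hd₀i, hd₀0, hu, hout⟩ := S.wit hK hgK hg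
  obtain ⟨l₀, hl₀, hul⟩ : ∃ l, l ≠ i₀ ∧ cp O u l ≠ 0 := by
    by_contra hno
    push Not at hno
    exact hout (mem_of_cp O hno)
  have hD0 := grow O h4 hK hd₀ hd₀i hu hl₀ hul
  -- every singular vector of the second block sees the first
  have hline : ∀ d ∈ D l₀, ∀ hd : R d = 0, d ≠ 0 → D i₀ ≤ W K d hd := fun d hdl hd hd0 =>
    grow O h4 hK hd hdl (OrthWreath.swap_mem hd (hD0 hdl)) hl₀.symm
      (by rw [cp_self O hd₀i]; exact hd₀0)
  have hall : ∀ m, m ≠ l₀ → ∀ d ∈ D l₀, ∀ hd : R d = 0, d ≠ 0 → D m ≤ W K d hd := by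
    intro m hm
    by_cases hmi : m = i₀
    · subst hmi; exact hline
    obtain ⟨c, hcK, -, hci, hcl, -, hsurj, -⟩ := exists_cycle O hK hl₀ (Ne.symm hm) (Ne.symm hmi)
    intro d hd hdd hd0 e he
    by_contra hne
    obtain ⟨φ, hφe, hφ⟩ : ∃ φ : V →ₗ[F] F, φ e ≠ 0 ∧ ∀ x ∈ W K d hdd, φ x = 0 := by
      obtain ⟨φ, h1, h2⟩ := Submodule.exists_dual_map_eq_bot_of_notMem hne inferInstance
      exact ⟨φ, h1, fun x hx => by
        have := Submodule.mem_map_of_mem (f := φ) hx
        rwa [h2, Submodule.mem_bot] at this⟩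
    obtain ⟨e', he', hee', hφe'⟩ := exists_sing_ne O h4 m φ ⟨e, he, hφe⟩
    obtain ⟨d₁, hd₁, hde₁⟩ := hsurj e' he'
    have hd₁s : R d₁ = 0 := by rw [← c.2 d₁, hde₁, hee']
    have hd₁0 : d₁ ≠ 0 := fun h => hφe' (by rw [← hde₁, h, map_zero, map_zero])
    obtain ⟨z, hz, hzd⟩ := map_onto O hcl d hd
    refine hφe' (hφ e' (OrthWreath.swap_mem hdd (?_ : d ∈ W K e' hee')))
    rw [← hzd]
    exact OrthWreath.mem_map (hline d₁ hd₁ hd₁s hd₁0 hz) hcK hee' hde₁
  have hfull : ∀ d ∈ D l₀, R d = 0 → d ≠ 0 → Orth.Full K d := by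
    intro d hd hdd hd0 x hx
    have hmem : x ∈ W K d hdd := by
      rw [← sum_cp O x]
      refine Submodule.sum_mem _ fun p _ => ?_
      by_cases hp : p = l₀
      · refine hp ▸ eich_block O hK hd (cp_mem O x l₀) hd0 hdd ?_
        rw [QuadraticMap.polar_comm, cp_polar O x hd, QuadraticMap.polar_comm]
        exact hx
      · exact hall p hp d hd hdd hd0 (cp_mem O x p)
    have := hmem.2 1
    rwa [one_smul] at this
  obtain ⟨e, he, he0, hee⟩ := Orth.exists_singular_in (Q := R) (S := D l₀) (by rw [O.rank]; omega)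
  obtain ⟨f', hf', hef⟩ := Eichler.exists_partner (R.comp (D l₀).subtype)
    (Orth.nondeg_comp (block_nd O l₀)) (e := ⟨e, he⟩) (fun h => he0 (congrArg Subtype.val h)) hee
  have hef' : polar R e (f' : V) = 1 := by rw [← hef]; simp [polar]
  refine Orth.le_of_full_pair O.nd O.hdim hee hf' ?_ (hfull e he hee he0)
    (hfull _ f'.2 hf' fun h => ?_)
  · show polar R e (f' : V) ≠ 0
    rw [hef']; exact one_ne_zero
  · have h' : (f' : V) = 0 := h
    rw [h', QuadraticMap.polar_zero_right] at hef'
    exact zero_ne_one hef'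

theorem T4.exists_not_mono (S : T4 R k D) : ∃ g ∈ Subgroup.closure (Sieg R), ¬ Mono D g := by
  have ht := S.bd.dec.decomp.decomp.two_le
  let i₀ : Fin t := ⟨0, by omega⟩
  let i₁ : Fin t := ⟨1, by omega⟩
  obtain ⟨a, ha, ha0, haR⟩ := Orth.exists_singular_in (Q := R) (S := D i₀)
    (by rw [S.bd.rank]; have := S.four; omega)
  obtain ⟨b, hb, hbR⟩ := S.exists_ns i₁
  exact not_mono_omega S.bd (i := i₀) (j := i₁) (by simp [i₀, i₁]) ha hb ha0 haR hbR

/-- Maximality from the two engines. -/
theorem isMaximalIn_blocks (O : BD R k D)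
    (hne : ∃ g ∈ Subgroup.closure (Sieg R), ¬ Mono D g)
    (htop : ∀ K : Subgroup (quadIso R), Ov R D K → ∀ g ∈ K, ¬ Mono D g →
      Subgroup.closure (Sieg R) ≤ K) :
    IsMaximalIn (omegaGL ⇑R) (decompositionStabilizer D ⊓ omegaGL ⇑R) := by
  have hD := O.dec.decomp.decomp
  have hiff : ∀ g : quadIso R, Orth.toMat R g ∈ decompositionStabilizer D ↔ Mono D g := fun g => by
    refine ⟨fun h i => ?_, fun h => Decomp.mem_stab_of hD fun i => ?_⟩
    · obtain ⟨σ, hσ⟩ := Orth.exists_perm h
      exact ⟨σ i, hσ i⟩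
    · obtain ⟨j, hj⟩ := h i
      exact ⟨j, fun x hx => by rw [Orth.toMat_mulVec]; exact hj x hx⟩
  rw [Orth.omegaGL_eq O.nd O.dim]
  refine ⟨lt_of_le_of_ne inf_le_right fun e => ?_, fun K hle hKG => ?_⟩
  · obtain ⟨g, hg, hgm⟩ := hne
    exact hgm ((hiff g).1 ((e.ge.trans inf_le_left) (Subgroup.mem_map_of_mem (Orth.toMat R) hg)))
  by_cases hKH : K ≤ decompositionStabilizer D
  · exact Or.inl (le_antisymm (le_inf hKH hKG) hle)
  refine Or.inr (le_antisymm hKG ?_)
  obtain ⟨x, hxK, hxA⟩ := SetLike.not_le_iff_exists.1 hKH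
  obtain ⟨g, hg, rfl⟩ := hKG hxK
  refine Subgroup.map_le_iff_le_comap.2 (htop _ (fun g' h1 h2 => ?_) g hxK fun h => hxA ((hiff g).2 h))
  exact hle ⟨(hiff g').2 h2, Subgroup.mem_map_of_mem _ h1⟩

theorem two_maximal (S : T2 R D) :
    IsMaximalIn (omegaGL ⇑R) (decompositionStabilizer D ⊓ omegaGL ⇑R) :=
  isMaximalIn_blocks S.bd (exists_not_mono S) fun _ hK _ hgK hg =>
    omega_le_of_ii S hK (exists_ii S hK hgK hg)

theorem even_maximal (S : T4 R k D) :
    IsMaximalIn (omegaGL ⇑R) (decompositionStabilizer D ⊓ omegaGL ⇑R) :=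
  isMaximalIn_blocks S.bd S.exists_not_mono fun _ hK _ hgK hg => S.omega_le hK hgK hg

end CfsgLib.MaxSub.OrthBlocks
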