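import Cfsg.Agent.Lib.MaxSub.OrthBlocks.Even
import Cfsg.Agent.Lib.MaxSub.NotMaximalOrthBlocks
import Cfsg.Agent.Lib.MaxSub.SubspaceMaximalOrthGL

/-!
Stabilisers of orthogonal decompositions into blocks of dimension at least two: the three engines
combined.
-/

set_option autoImplicit false
set_option linter.unusedSectionVars false

namespace CfsgLib.MaxSub.OrthBlocks

open Module Cfsg Cfsg.Geo
open QuadraticMap (polar polarBilin)

variable {F : Type*} [Field F] {ι : Type} [Fintype ι] [DecidableEq ι]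

theorem plus_iso {Q : (ι → F) → F} {W W' : Submodule F (ι → F)} (h : AreIsometricFor Q W W') :
    IsPlusTypeOn Q W → IsPlusTypeOn Q W' := by
  rintro ⟨U, hUW, hU, hd⟩
  obtain ⟨e, he⟩ := h
  refine ⟨((U.comap W.subtype).map e.toLinearMap).map W'.subtype, Submodule.map_subtype_le _ _,
    fun w hw => ?_, ?_⟩
  · obtain ⟨_, ⟨u, hu, rfl⟩, rfl⟩ := hw
    show Q ((e u : W') : ι → F) = 0
    rw [he]
    exact hU _ hu
  · rw [Submodule.finrank_map_subtype_eq, LinearEquiv.finrank_map_eq e,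
      (Submodule.comapSubtypeEquivOfLe hUW).finrank_eq, hd, e.finrank_eq]

variable [Fintype F] {t k : ℕ} {R : QuadraticForm F (ι → F)} {D : Fin t → Submodule F (ι → F)}

theorem card_ne_six : Fintype.card F ≠ 6 := by
  intro h
  obtain ⟨p, -, n, hp, hc⟩ := FiniteField.card' F
  rw [h] at hc
  have hdvd : p ∣ 2 * 3 := ⟨p ^ ((n : ℕ) - 1), by
    rw [← pow_succ', Nat.sub_add_cancel n.pos]; exact hc⟩
  rcases (hp.dvd_mul.1 hdvd) with h2 | h3
  · have := (Nat.prime_dvd_prime_iff_eq hp Nat.prime_two).1 h2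
    subst this
    have h3 : (3 : ℕ) ∣ 2 ^ (n : ℕ) := ⟨2, by omega⟩
    exact absurd ((Nat.prime_three).dvd_of_dvd_pow h3) (by norm_num)
  · have := (Nat.prime_dvd_prime_iff_eq hp Nat.prime_three).1 h3
    subst this
    have h3 : (2 : ℕ) ∣ 3 ^ (n : ℕ) := ⟨3, by omega⟩
    exact absurd ((Nat.prime_two).dvd_of_dvd_pow h3) (by norm_num)

theorem blocks_maximal (hR : (polarBilin R).Nondegenerate) (hn : 5 ≤ Fintype.card ι)
    (hk : 2 ≤ k) (hD : IsOrthogonalMDecomposition (⇑R) k D)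
    (hkodd : Odd k → Odd (Fintype.card F)) (ht2 : k = 2 → 5 ≤ t)
    (hex : ¬ (Fintype.card F = 3 ∧ (k = 2 ∨ k = 3)))
    (hq2 : Fintype.card F = 2 → k = 4 → ∀ i, ¬ IsPlusTypeOn (⇑R) (D i))
    (hk2 : k = 2 → Fintype.card F = 2 ∨ Fintype.card F = 4 ∨ Fintype.card F = 5 →
      ∀ i, ¬ IsPlusTypeOn (⇑R) (D i)) :
    IsMaximalIn (omegaGL ⇑R) (decompositionStabilizer D ⊓ omegaGL ⇑R) := by
  classical
  have O : BD R k D := ⟨hn, hR, hk, hD⟩
  by_cases h2k : k = 2
  · subst h2k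
    refine two_maximal ⟨O, ht2 rfl, fun i => ⟨fun h => hex ⟨h, Or.inl rfl⟩, fun ⟨z, hz, hz0, hzz⟩ => ?_⟩⟩
    by_contra hlt
    have h1 : 2 ≤ Fintype.card F := Fintype.one_lt_card
    have h6 := card_ne_six (F := F)
    have h3 : Fintype.card F ≠ 3 := fun h => hex ⟨h, Or.inl rfl⟩
    exact hk2 rfl (by omega) i (Orth.plane_plus (O.rank i) hz hz0 hzz)
  by_cases h2 : (2 : F) = 0
  · have h4 : 4 ≤ k := by
      rcases Nat.even_or_odd k with ⟨j, hj⟩ | ho
      · omega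
      · exact absurd h2 (FiniteForms.two_ne_zero_of_odd (F := F) rfl (hkodd ho))
    exact even_maximal ⟨O, h4, h2, hq2⟩
  refine OrthWreath.orth_wreath_maximal ⟨hn, hR, h2, by omega, ?_, hD⟩
  rcases Nat.lt_or_ge k 4 with h | h
  · refine Or.inr ?_
    obtain ⟨j, hj⟩ := hkodd ⟨1, by omega⟩
    have h1 : 2 ≤ Fintype.card F := Fintype.one_lt_card
    by_contra hc
    exact hex ⟨by omega, by omega⟩
  · exact Or.inl h

end CfsgLib.MaxSub.OrthBlocks
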