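import Cfsg.Agent.Lib.MaxSub.OrthBlocks.Final

/-!
Decompositions into two orthogonal halves which are not isometric.
-/

set_option autoImplicit false

namespace CfsgLib.MaxSub.OrthBlocks

open Matrix Module Cfsg Cfsg.Geo
open CfsgLib.WittExtension (quadIso)
open CfsgLib.Eichler (Sieg)
open QuadraticMap (polar polarBilin)

variable {F : Type*} [Field F] [Fintype F] {ι : Type} [Fintype ι] [DecidableEq ι]

theorem halves_maximal {R : QuadraticForm F (ι → F)} (hR : (polarBilin R).Nondegenerate)
    (hn : 8 ≤ Fintype.card ι) {k : ℕ} (hk : 5 ≤ k) {D : Fin 2 → Submodule F (ι → F)}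
    (hD : IsNondegenerateMDecomposition (polar ⇑R) k D) (hne : ¬ AreIsometricFor (⇑R) (D 0) (D 1)) :
    IsMaximalIn (omegaGL ⇑R) (decompositionStabilizer D ⊓ omegaGL ⇑R) := by
  have hd : finrank F (ι → F) = Fintype.card ι := Module.finrank_fintype_fun_eq_card F
  have hW := Orth.nondeg_of (hD.nondegenerate 0)
  have hr := hD.decomp.finrank_eq
  have h2k : 2 * k = Fintype.card ι :=
    CfsgLib.Aschbacher.mDecomposition_mul_eq hD.decomp
  have hle : D 1 ≤ Orth.orth R (D 0) := fun x hx y hy => hD.orthogonal 0 1 (by decide) y hy x hx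
  have horth : Orth.orth R (D 0) = D 1 := (Submodule.eq_of_le_of_finrank_le hle (by
    have := Orth.finrank_orth hR (D 0)
    rw [hr 0, hd] at this
    rw [hr 1]
    omega)).symm
  have hno : ∀ g : quadIso R, ¬ (D 1).map (g.1 : (ι → F) →ₗ[F] (ι → F)) ≤ D 0 := fun g hg => by
    have e : (D 1).map (g.1 : (ι → F) →ₗ[F] (ι → F)) = D 0 := Submodule.eq_of_le_of_finrank_eq hg
      (by rw [LinearEquiv.finrank_map_eq, hr, hr])
    refine hne ⟨(g.1.ofSubmodules (D 1) (D 0) e).symm, fun w => ?_⟩
    obtain ⟨v, rfl⟩ := (g.1.ofSubmodules (D 1) (D 0) e).surjective w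
    rw [LinearEquiv.symm_apply_apply]
    exact (g.2 _).symm
  have hmax := Orth.isMaximalIn_of_maxStab hR (by omega) (Orth.maxStab_nondeg hR (by omega)
    (by rw [hd]; omega) (W := D 0) (fun h => by have := hr 0; rw [h, finrank_bot] at this; omega) hW
    (by rw [hr, hd]; omega) (fun g => horth ▸ hno g) (fun h => by have := h.2.1; rw [hr] at this; omega)
    (fun _ h => by rw [hr] at h; omega))
  have heq : decompositionStabilizer D ⊓ omegaGL ⇑R = subspaceStabilizer (D 0) ⊓ omegaGL ⇑R := by
    rw [Orth.omegaGL_eq hR (by omega)]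
    refine le_antisymm (le_inf ?_ inf_le_right) (le_inf ?_ inf_le_right) <;>
      rintro _ ⟨h, g, hg, rfl⟩
    · obtain ⟨σ, hσ⟩ := Orth.exists_perm h
      refine Orth.toMat_mem_stab.2 (Orth.mem_St fun x hx => ?_)
      by_cases h0 : σ 0 = 0
      · exact h0 ▸ hσ 0 x hx
      refine absurd (Submodule.map_le_iff_le_comap.2 fun y hy => ?_) (hno g)
      have h1 : σ 1 = 0 := by
        have h01 : σ 0 ≠ σ 1 := fun e => absurd (σ.injective e) (by decide)
        omega
      exact h1 ▸ hσ 1 y hy
    · have hg0 := Orth.toMat_mem_stab.1 h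
      refine Decomp.mem_stab_of hD.decomp fun i => ⟨i, fun x hx => ?_⟩
      rw [Orth.toMat_mulVec]
      obtain rfl | rfl : i = 0 ∨ i = 1 := by omega
      · exact Orth.maps_of_mem hg0 hx
      · rw [← horth] at hx ⊢
        intro y hy
        have hmap : (D 0).map (g.1 : (ι → F) →ₗ[F] (ι → F)) = D 0 :=
          Submodule.eq_of_le_of_finrank_eq (Submodule.map_le_iff_le_comap.2 fun z hz => by
            exact Orth.maps_of_mem hg0 hz) (by rw [LinearEquiv.finrank_map_eq])
        obtain ⟨z, hz, rfl⟩ := Submodule.mem_map.1 (hmap.ge hy)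
        show polar R (g.1 z) (g.1 x) = 0
        rw [OrthOrder.polar_map g.2]
        exact hx z hz
  rw [heq]
  exact hmax

end CfsgLib.MaxSub.OrthBlocks
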