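import Cfsg.Agent.Lib.MaxSub.OrthBlocks.Cycle

/-!
Blocks of dimension two: an overgroup outside the stabiliser relates a block vector to a vector of several
blocks.
-/

set_option autoImplicit false
set_option maxHeartbeats 400000
set_option linter.unusedSectionVars false

namespace CfsgLib.MaxSub.OrthBlocks

open Module Cfsg Cfsg.Geo
open CfsgLib.Eichler (Sieg IsEich exists_eich)
open CfsgLib.WittExtension (quadIso)
open CfsgLib.MaxSub.Orth (InA)
open QuadraticMap (polar polarBilin)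

variable {F : Type*} [Field F] [Fintype F] {ι : Type} [Fintype ι] [DecidableEq ι] {t : ℕ}
  {R : QuadraticForm F (ι → F)} {D : Fin t → Submodule F (ι → F)}
  {K : Subgroup (quadIso R)}

local notation "V" => (ι → F)

/-- The setting with blocks of dimension two. -/
structure T2 (R : QuadraticForm F (ι → F)) (D : Fin t → Submodule F (ι → F)) : Prop where
  bd : BD R 2 D
  many : 5 ≤ t
  big : ∀ i, Big R (D i)

theorem T2.plane (S : T2 R D) (i : Fin t) : NPlane R (D i) :=
  ⟨S.bd.rank i, block_nd S.bd i⟩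

theorem hasSing_iso (O : BD R 2 D) {i j : Fin t} (h : HasSing R (D i)) : HasSing R (D j) := by
  obtain ⟨φ, hφ⟩ := O.dec.isometric i j
  obtain ⟨z, hz, hz0, hzz⟩ := h
  exact ⟨(φ ⟨z, hz⟩).1, (φ ⟨z, hz⟩).2, fun h => hz0 (congrArg Subtype.val
    (φ.map_eq_zero_iff.1 (Subtype.ext h) : (⟨z, hz⟩ : D i) = 0)), (hφ _).trans hzz⟩

theorem isSquare_mul_of_not {a b : F} (ha : ¬ IsSquare a) (hb : ¬ IsSquare b) : IsSquare (a * b) := by
  classical
  have h2 : ringChar F ≠ 2 := fun h => ha (FiniteField.isSquare_of_char_two h a)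
  have ha0 : a ≠ 0 := fun h => ha (h ▸ IsSquare.zero)
  have hb0 : b ≠ 0 := fun h => hb (h ▸ IsSquare.zero)
  rw [← quadraticChar_one_iff_isSquare (mul_ne_zero ha0 hb0), map_mul,
    (quadraticChar_neg_one_iff_not_isSquare).2 ha, (quadraticChar_neg_one_iff_not_isSquare).2 hb]
  norm_num

theorem exists_sq_pair {a b c : F} :
    IsSquare (a * b) ∨ IsSquare (a * c) ∨ IsSquare (b * c) := by
  by_cases ha : IsSquare a
  · by_cases hb : IsSquare b
    · exact Or.inl (ha.mul hb)
    by_cases hc : IsSquare c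
    · exact Or.inr (Or.inl (ha.mul hc))
    exact Or.inr (Or.inr (isSquare_mul_of_not hb hc))
  · by_cases hb : IsSquare b
    · by_cases hc : IsSquare c
      · exact Or.inr (Or.inr (hb.mul hc))
      exact Or.inr (Or.inl (isSquare_mul_of_not ha hc))
    exact Or.inl (isSquare_mul_of_not ha hb)

theorem exists_block_ne (O : BD R 2 D) {x : V} (i : Fin t) (h : cp O x i ≠ 0) :
    ∃ y ∈ D i, polar R x y ≠ 0 := by
  by_contra hno
  push Not at hno
  exact h (block_nd O i _ (cp_mem O x i) fun y hy => by rw [cp_polar O x hy]; exact hno y hy)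

theorem cp_ne_of (O : BD R 2 D) {x y : V} {i : Fin t} (hy : y ∈ D i) (h : polar R x y ≠ 0) :
    cp O x i ≠ 0 := fun h0 => h (by rw [← cp_polar O x hy, h0, QuadraticMap.polar_zero_left])

theorem T2.conn (S : T2 R D) : Conn R D := by
  have O := S.bd
  intro g hg c hc
  obtain ⟨i, x, hx, hnb⟩ : ∃ i, ∃ x ∈ D i, ¬ Blk D (g.1 x) := by
    by_contra hno
    push Not at hno
    refine hg fun i => ?_
    obtain ⟨j, hj⟩ := Decomp.le_member O.dec.decomp.decomp (U := (D i).map (g.1 : V →ₗ[F] V)) (by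
      rintro _ ⟨x, hx, rfl⟩
      exact hno i x hx)
    exact ⟨j, fun x hx => hj (Submodule.mem_map_of_mem hx)⟩
  obtain ⟨l, m, hlm, hl, hm⟩ := two_of_not_blk O hnb
  obtain ⟨yl, hyl, hyl0⟩ := exists_block_ne O l hl
  obtain ⟨ym, hym, hym0⟩ := exists_block_ne O m hm
  have happ : ∀ y a, ((polarBilin R y).comp (g.1 : V →ₗ[F] V)) a = polar R (g.1 a) y := fun y a =>
    QuadraticMap.polar_comm R y (g.1 a)
  obtain ⟨a, ha, haR, h1, h2⟩ := exists_class_two (S.plane i) (S.big i)
    ((polarBilin R yl).comp (g.1 : V →ₗ[F] V)) ((polarBilin R ym).comp (g.1 : V →ₗ[F] V))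
    ⟨x, hx, by rwa [happ]⟩ ⟨x, hx, by rwa [happ]⟩ hc
  rw [happ] at h1 h2
  exact ⟨i, a, ha, by rw [haR]; exact hc, by rw [haR]; exact ⟨c, rfl⟩,
    not_blk O hlm (cp_ne_of O hyl h1) (cp_ne_of O hym h2)⟩

theorem span_of_indep {P : Submodule F V} (hP : NPlane R P) {x y : V} (hx : x ∈ P) (hy : y ∈ P)
    (hx0 : x ≠ 0) (hne : ∀ s : F, y ≠ s • x) : ∀ w ∈ P, ∃ α β : F, α • x + β • y = w := by
  intro w hw
  have hli : LinearIndependent F ![(⟨x, hx⟩ : P), ⟨y, hy⟩] := by
    rw [LinearIndependent.pair_iff]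
    intro s r hsr
    have h : s • x + r • y = 0 := congrArg Subtype.val hsr
    have hr : r = 0 := by
      by_contra hr
      refine hne (-s / r) ?_
      rw [neg_div, neg_smul, div_eq_inv_mul, mul_smul, eq_neg_of_add_eq_zero_left h, smul_neg,
        smul_smul, inv_mul_cancel₀ hr, one_smul, neg_neg]
    rw [hr, zero_smul, add_zero, smul_eq_zero] at h
    exact ⟨h.resolve_right hx0, hr⟩
  have hspan := hli.span_eq_top_of_card_eq_finrank (by simp [hP.rank])
  have hw' : (⟨w, hw⟩ : P) ∈ Submodule.span F (Set.range ![(⟨x, hx⟩ : P), ⟨y, hy⟩]) := by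
    rw [hspan]; exact Submodule.mem_top
  obtain ⟨c, hc⟩ := (Submodule.mem_span_range_iff_exists_fun F).1 hw'
  refine ⟨c 0, c 1, ?_⟩
  have := congrArg Subtype.val hc
  simpa [Fin.sum_univ_two] using this

/-- The vectors of a plane perpendicular to a singular one are its multiples. -/
theorem perp_of_sing {P : Submodule F V} (hP : NPlane R P) {e y : V} (he : e ∈ P) (hy : y ∈ P)
    (he0 : e ≠ 0) (hee : R e = 0) (hey : polar R e y = 0) : ∃ s : F, y = s • e := by
  by_contra hno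
  push Not at hno
  refine he0 (hP.nd e he fun w hw => ?_)
  obtain ⟨α, β, rfl⟩ := span_of_indep hP he hy he0 hno w hw
  rw [QuadraticMap.polar_add_right, QuadraticMap.polar_smul_right, QuadraticMap.polar_smul_right,
    QuadraticMap.polar_self, hee, hey]
  simp

/-- A non-singular block vector perpendicular to a given vector. -/
theorem exists_perp_block (S : T2 R D) {x : V} {m : Fin t}
    (h : cp S.bd x m = 0 ∨ R (cp S.bd x m) ≠ 0) : ∃ b ∈ D m, R b ≠ 0 ∧ polar R x b = 0 := by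
  have O := S.bd
  rcases h with h | h
  · obtain ⟨b, hb, hb0⟩ := (S.plane m).exists_ne
    exact ⟨b, hb, hb0, by rw [← cp_polar S.bd x hb, h, QuadraticMap.polar_zero_left]⟩
  have hdim := Orth.finrank_inf_ker (D m) (polarBilin R x)
  obtain ⟨b, hb, hb0⟩ := Submodule.exists_mem_ne_zero_of_ne_bot
    (show D m ⊓ LinearMap.ker (polarBilin R x) ≠ ⊥ from fun e => by
      rw [e, finrank_bot, O.rank] at hdim; omega)
  have hxb : polar R x b = 0 := hb.2
  refine ⟨b, hb.1, fun hbb => ?_, hxb⟩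
  obtain ⟨s, hs⟩ := perp_of_sing (S.plane m) hb.1 (cp_mem S.bd x m) hb0 hbb
    (by rw [QuadraticMap.polar_comm, cp_polar S.bd x hb.1]; exact hxb)
  exact h (by rw [hs, QuadraticMap.map_smul, hbb, smul_zero])

/-- A torus element of a block. -/
theorem exists_torus (S : T2 R D) (hK : Ov R D K) {m : Fin t} {e : V} (he : e ∈ D m) (he0 : e ≠ 0)
    (hee : R e = 0) : ∃ d ∈ K, (∀ p, p ≠ m → ∀ x ∈ D p, d.1 x = x) ∧
      ∃ lam : F, lam ≠ 1 ∧ d.1 e = lam • e := by
  classical
  have O := S.bd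
  obtain ⟨f', hf', hef'⟩ := Eichler.exists_partner (R.comp (D m).subtype)
    (Orth.nondeg_comp (block_nd O m)) (e := ⟨e, he⟩) (fun h => he0 (congrArg Subtype.val h)) hee
  have hff : R (f' : V) = 0 := hf'
  have hef : polar R e (f' : V) = 1 := by rw [← hef']; simp [polar]
  obtain ⟨μ, hμ0, hμ1, hμ2, -⟩ := exists_param ((S.big m).2 ⟨e, he, he0, hee⟩)
  set f : V := (f' : V)
  have hfe : polar R f e = 1 := by rw [QuadraticMap.polar_comm]; exact hef
  have hR : ∀ s : F, R (e + (-s) • f) = -s := fun s => by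
    rw [QuadraticMap.map_add R, QuadraticMap.map_smul, QuadraticMap.polar_smul_right, hee, hff, hef]
    simp
  have hmem : ∀ s : F, e + (-s) • f ∈ D m := fun s => (D m).add_mem he ((D m).smul_mem _ f'.2)
  have hμμ : μ * μ ≠ 0 := mul_ne_zero hμ0 hμ0
  have h1 : R (e + (-1 : F) • f) ≠ 0 := by rw [hR]; simp
  have h2 : R (e + (-(μ * μ)) • f) ≠ 0 := by rw [hR]; exact neg_ne_zero.2 hμμ
  have hP := pr_block O hK (hmem 1) (hmem (μ * μ)) h1 h2 ⟨μ, by rw [hR, hR]; ring⟩
  refine ⟨_, hP.2.2.2, fun p hp x hx => ?_, μ * μ, fun h => ?_, ?_⟩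
  · show (rr R _).1 ((rr R _).1 x) = x
    rw [rr_perp (block_perp O hp.symm (hmem _) hx), rr_perp (block_perp O hp.symm (hmem _) hx)]
  · rcases mul_self_eq_one_iff.1 h with h | h
    · exact hμ1 (by rw [h, sub_self])
    · exact hμ2 (by rw [h, neg_add_cancel])
  · show (rr R _).1 ((rr R _).1 e) = _
    rw [rr_apply h2, rr_apply h1, hR, hR]
    simp only [QuadraticMap.polar_add_left, QuadraticMap.polar_add_right, QuadraticMap.polar_smul_left,
      QuadraticMap.polar_smul_right, QuadraticMap.polar_self, hee, hff, hef, hfe, smul_eq_mul,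
      smul_zero, mul_zero, mul_one, zero_add, add_zero]
    match_scalars <;> field_simp <;> ring

theorem sub_of_fix (O : BD R 2 D) {d : quadIso R} {m : Fin t}
    (hd : ∀ p, p ≠ m → ∀ x ∈ D p, d.1 x = x) (x : V) : d.1 x - x = d.1 (cp O x m) - cp O x m := by
  conv_lhs => rw [← sum_cp O x, map_sum, ← Finset.sum_sub_distrib]
  exact Finset.sum_eq_single m (fun p _ hp => by rw [hd p hp _ (cp_mem O x p), sub_self])
    (fun h => absurd (Finset.mem_univ m) h)

/-- An Eichler transformation at a singular block vector. -/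
theorem ii_of_eich (S : T2 R D) (hK : Ov R D K) {l m : Fin t} {e z : V} (he : e ∈ D l) (he0 : e ≠ 0)
    (hee : R e = 0) (hez : polar R e z = 0) (hA : InA K e z) (hml : m ≠ l) (hzm : cp S.bd z m ≠ 0) :
    II D K := by
  classical
  have core : ∀ (z : V) (m p : Fin t), polar R e z = 0 → InA K e z → m ≠ l → cp S.bd z m ≠ 0 →
      p ≠ l → (cp S.bd z p = 0 ∨ R (cp S.bd z p) ≠ 0) → II D K := by
    intro z m p hez hA hml hzm hpl hgood
    have O := S.bd
    obtain ⟨b, hb, hb0, hzb⟩ := exists_perp_block S hgood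
    obtain ⟨g, hg⟩ := exists_eich R hee hez
    obtain ⟨f, hf, hef⟩ : ∃ f ∈ D l, polar R e f ≠ 0 := (S.plane l).exists_polar he he0
    refine ii_of_fix O hK S.conn (hA g hg) (fun hmono => ?_) hb hb0 (by
      rw [hg b, block_perp O hpl.symm he hb, hzb]; simp)
    obtain ⟨j, hj⟩ := hmono l
    have h := hj f hf
    rw [hg f] at h
    refine not_blk O hml.symm ?_ ?_ ⟨j, h⟩
    · refine cp_ne_of O he ?_
      rw [QuadraticMap.polar_add_left, QuadraticMap.polar_add_left, QuadraticMap.polar_smul_left,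
        QuadraticMap.polar_smul_left, QuadraticMap.polar_self, hee,
        QuadraticMap.polar_comm R f e, QuadraticMap.polar_comm R z e, hez]
      simpa using hef
    · rw [cp_add, cp_add, cp_smul, cp_smul, cp_other S.bd hf hml.symm, cp_other S.bd he hml.symm,
        smul_zero, zero_add, add_zero]
      exact smul_ne_zero hef hzm
  by_cases hgood : ∃ p, p ≠ l ∧ (cp S.bd z p = 0 ∨ R (cp S.bd z p) ≠ 0)
  · obtain ⟨p, hpl, hp⟩ := hgood
    exact core z m p hez hA hml hzm hpl hp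
  push Not at hgood
  obtain ⟨hm1, hm2⟩ := hgood m hml
  obtain ⟨d, hd, hfix, lam, hlam, hde⟩ := exists_torus S hK (cp_mem S.bd z m) hm1 hm2
  have h0 : z ∈ AE K e hee := ⟨hez, hA⟩
  have h1 := (AE K e hee).sub_mem (ae_map h0 hd hee (hfix l hml.symm e he)) h0
  rw [sub_of_fix S.bd hfix z, hde,
    show lam • cp S.bd z m - cp S.bd z m = (lam - 1) • cp S.bd z m by module] at h1
  have hmem : (lam - 1) • cp S.bd z m ∈ D m := (D m).smul_mem _ (cp_mem S.bd z m)
  obtain ⟨p, hp, hp'⟩ : ∃ p : Fin t, p ≠ l ∧ p ≠ m := by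
    obtain ⟨p, hp⟩ := Finset.card_pos.1 (show 0 < ({l, m} : Finset (Fin t))ᶜ.card by
      rw [Finset.card_compl, Fintype.card_fin, Finset.card_pair hml.symm]
      have := S.many
      omega)
    simp only [Finset.mem_compl, Finset.mem_insert, Finset.mem_singleton, not_or] at hp
    exact ⟨p, hp.1, hp.2⟩
  refine core _ m p h1.1 h1.2 hml ?_ hp (Or.inl (cp_other S.bd hmem hp'.symm))
  rw [cp_self S.bd hmem]
  exact smul_ne_zero (sub_ne_zero.2 hlam) hm1

theorem exists_dual_vec (O : BD R 2 D) {U : Submodule F V} {x : V} (hx : x ∉ U) (c : F) :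
    ∃ z, polar R z x = c ∧ ∀ y ∈ U, polar R z y = 0 := by
  obtain ⟨L, hLx, hL⟩ := Submodule.exists_dual_map_eq_bot_of_notMem hx inferInstance
  set w := (LinearMap.BilinForm.toDual (polarBilin R) O.nd).symm ((c / L x) • L) with hw
  have hwy : ∀ y, polar R w y = c / L x * L y := fun y => by
    rw [hw]
    exact LinearMap.BilinForm.apply_toDual_symm_apply (hB := O.nd) ((c / L x) • L) y
  refine ⟨w, by rw [hwy, div_mul_cancel₀ _ hLx], fun y hy => ?_⟩
  have : L y ∈ U.map L := Submodule.mem_map_of_mem hy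
  rw [hL, Submodule.mem_bot] at this
  rw [hwy, this, mul_zero]

/-- A plane of reflections whose projection in some block is a singular line. -/
theorem ii_of_torus (S : T2 R D) (hK : Ov R D K) {v u : V} (hP : Pr K v u) (hvu : ∀ s : F, v ≠ s • u)
    {l : Fin t} {e : V} (he : e ∈ D l) (he0 : e ≠ 0) (hee : R e = 0) {α β : F}
    (hv : cp S.bd v l = α • e) (hu : cp S.bd u l = β • e) (hαβ : α ≠ 0 ∨ β ≠ 0) : II D K := by
  classical
  have O := S.bd
  obtain ⟨hv0, hu0, -, hxK⟩ := hP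
  have hev : polar R e v = 0 := by
    rw [QuadraticMap.polar_comm, ← cp_polar S.bd v he, hv, QuadraticMap.polar_smul_left,
      QuadraticMap.polar_self, hee]
    simp
  have heu : polar R e u = 0 := by
    rw [QuadraticMap.polar_comm, ← cp_polar S.bd u he, hu, QuadraticMap.polar_smul_left,
      QuadraticMap.polar_self, hee]
    simp
  by_cases hspan : e ∈ Submodule.span F ({v, u} : Set V)
  · obtain ⟨p, r, hpr⟩ := Submodule.mem_span_pair.1 hspan
    have hp : p ≠ 0 := fun h => by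
      rw [h, zero_smul, zero_add] at hpr
      have := congrArg R hpr
      rw [QuadraticMap.map_smul, hee, smul_eq_zero] at this
      rcases mul_eq_zero.1 (this.resolve_right hu0) with h' | h' <;>
        exact he0 (by rw [← hpr, h', zero_smul])
    have hr : r ≠ 0 := fun h => by
      rw [h, zero_smul, add_zero] at hpr
      have := congrArg R hpr
      rw [QuadraticMap.map_smul, hee, smul_eq_zero] at this
      rcases mul_eq_zero.1 (this.resolve_right hv0) with h' | h' <;>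
        exact he0 (by rw [← hpr, h', zero_smul])
    have hu' : (-(r / p)) • u = v + (-(1 / p)) • e := by
      rw [← hpr]; match_scalars <;> field_simp <;> ring
    have hA := eich_pair (s := -(1 / p)) (K := K) hv0 hee (by rwa [QuadraticMap.polar_comm]) (by
      rw [← hu', rr_smul hu0 (neg_ne_zero.2 (div_ne_zero hr hp))]; exact hxK)
    obtain ⟨m, hml, hm⟩ : ∃ m, m ≠ l ∧ cp S.bd v m ≠ 0 := by
      by_contra hno
      push Not at hno
      exact hv0 (by rw [eq_cp S.bd hno, hv, QuadraticMap.map_smul, hee, smul_zero])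
    refine ii_of_eich S hK he he0 hee ?_ hA hml ?_
    · rw [QuadraticMap.polar_smul_right, hev, smul_zero]
    · rw [cp_smul]
      exact smul_ne_zero (div_ne_zero (neg_ne_zero.2 (div_ne_zero one_ne_zero hp)) hv0) hm
  have huv : ∀ s : F, u ≠ s • v := fun s h => hvu s⁻¹ (by
    rw [h, smul_smul, inv_mul_cancel₀ (fun h0 => hu0 (by rw [h, h0, zero_smul,
      QuadraticMap.map_zero])), one_smul])
  obtain ⟨d, hd, hfix, lam, hlam, hde⟩ := exists_torus S hK he he0 hee
  have hdw : ∀ (w : V) (γ : F), cp S.bd w l = γ • e → d.1 w = w + ((lam - 1) * γ) • e := fun w γ h => by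
    rw [← sub_add_cancel (d.1 w) w, sub_of_fix S.bd hfix w, h, map_smul, hde]
    module
  have hv' : v ∉ Submodule.span F ({u, e} : Set V) := fun h => by
    obtain ⟨p, r, hpr⟩ := Submodule.mem_span_pair.1 h
    by_cases hr : r = 0
    · exact hvu p (by rw [← hpr, hr, zero_smul, add_zero])
    refine hspan (Submodule.mem_span_pair.2 ⟨r⁻¹, -(r⁻¹ * p), ?_⟩)
    rw [← hpr]; match_scalars <;> field_simp <;> ring
  have hu' : u ∉ Submodule.span F ({v, e} : Set V) := fun h => by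
    obtain ⟨p, r, hpr⟩ := Submodule.mem_span_pair.1 h
    by_cases hr : r = 0
    · exact huv p (by rw [← hpr, hr, zero_smul, add_zero])
    refine hspan (Submodule.mem_span_pair.2 ⟨-(r⁻¹ * p), r⁻¹, ?_⟩)
    rw [← hpr]; match_scalars <;> field_simp <;> ring
  obtain ⟨z₁, hz₁, hz₁'⟩ := exists_dual_vec S.bd hv' (-((lam - 1) * α))
  obtain ⟨z₂, hz₂, hz₂'⟩ := exists_dual_vec S.bd hu' (-((lam - 1) * β))
  obtain ⟨z, hz⟩ : ∃ z, z = z₁ + z₂ := ⟨_, rfl⟩
  have hzv : polar R z v = -((lam - 1) * α) := by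
    rw [hz, QuadraticMap.polar_add_left, hz₁, hz₂' v (Submodule.subset_span (Set.mem_insert _ _)),
      add_zero]
  have hzu : polar R z u = -((lam - 1) * β) := by
    rw [hz, QuadraticMap.polar_add_left, hz₂, hz₁' u (Submodule.subset_span (Set.mem_insert _ _)),
      zero_add]
  have hez : polar R e z = 0 := by
    rw [QuadraticMap.polar_comm, hz, QuadraticMap.polar_add_left,
      hz₁' e (Submodule.subset_span (Set.mem_insert_of_mem _ rfl)),
      hz₂' e (Submodule.subset_span (Set.mem_insert_of_mem _ rfl)), add_zero]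
  obtain ⟨T, hT⟩ := exists_eich R hee hez
  obtain ⟨x, hx⟩ : ∃ x, x = rr R v * rr R u := ⟨_, rfl⟩
  rw [← hx] at hxK
  have hTx : T * x * T⁻¹ = d * x * d⁻¹ := by
    have e1 : T.1 v = d.1 v := by rw [hT v, hdw v α hv, hev, hzv]; module
    have e2 : T.1 u = d.1 u := by rw [hT u, hdw u β hu, heu, hzu]; module
    rw [hx, show ∀ g : quadIso R, g * (rr R v * rr R u) * g⁻¹ =
      g * rr R v * g⁻¹ * (g * rr R u * g⁻¹) from fun g => by group, rr_conj, rr_conj, e1, e2]
    rw [show d * (rr R v * rr R u) * d⁻¹ = d * rr R v * d⁻¹ * (d * rr R u * d⁻¹) by group,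
      rr_conj, rr_conj]
  have hxe : x⁻¹.1 e = e := by
    rw [hx, mul_inv_rev, rr_inv, rr_inv]
    show (rr R u).1 ((rr R v).1 e) = e
    rw [rr_perp (by rwa [QuadraticMap.polar_comm] : polar R v e = 0),
      rr_perp (by rwa [QuadraticMap.polar_comm] : polar R u e = 0)]
  have h1 := OmegaSimple.eich_conj R hT x⁻¹
  rw [hxe, inv_inv] at h1
  have hez' : polar R e (-z) = 0 := by rw [QuadraticMap.polar_neg_right, hez, neg_zero]
  obtain ⟨T', hT'⟩ := exists_eich R hee hez'
  have hTT : T' = T⁻¹ := by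
    have h := Eichler.eich_add R hee hez hez' hT hT'
    rw [add_neg_cancel] at h
    exact eq_inv_of_mul_eq_one_right (Eichler.eich_unique R h (Eichler.eich_zero R e))
  have hexz : polar R e (x⁻¹.1 z) = 0 := by
    conv_lhs => rw [← hxe]
    rw [OrthOrder.polar_map x⁻¹.2, hez]
  have hy := Eichler.eich_add R hee hexz hez' h1 hT'
  rw [← sub_eq_add_neg, hTT] at hy
  have hyK : x⁻¹ * T * x * T⁻¹ ∈ K := by
    rw [show x⁻¹ * T * x * T⁻¹ = x⁻¹ * (T * x * T⁻¹) by group, hTx]
    exact mul_mem (inv_mem hxK) (mul_mem (mul_mem hd hxK) (inv_mem hd))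
  have hA : InA K e (x⁻¹.1 z - z) := fun g hg => by rw [Eichler.eich_unique R hg hy]; exact hyK
  have hxz : x⁻¹.1 z = (rr R u).1 ((rr R v).1 z) := by
    rw [hx, mul_inv_rev, rr_inv, rr_inv]; rfl
  have hin : x⁻¹.1 z - z ∈ Submodule.span F ({v, u} : Set V) := by
    rw [hxz, Set.pair_comm]
    exact pair_sub_mem hu0 hv0 z
  obtain ⟨m, hml, hm⟩ : ∃ m, m ≠ l ∧ cp S.bd (x⁻¹.1 z - z) m ≠ 0 := by
    by_contra hno
    push Not at hno
    have hD : x⁻¹.1 z - z ∈ D l := mem_of_cp S.bd hno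
    obtain ⟨s, hs⟩ := perp_of_sing (S.plane l) he hD he0 hee
      (by rw [QuadraticMap.polar_sub_right, hexz, hez, sub_self])
    have hs0 : s = 0 := by
      by_contra hs0
      exact hspan ((Submodule.smul_mem_iff _ hs0).1 (hs ▸ hin))
    rw [hs0, zero_smul, hxz, rr_apply hu0, rr_apply hv0] at hs
    have hc2 : -((R v)⁻¹ * polar R v z) = 0 := by
      by_contra hc
      rw [add_sub_right_comm, add_sub_cancel_left, ← sub_neg_eq_add, sub_eq_zero] at hs
      obtain ⟨c₁, hc₁⟩ : ∃ c₁, c₁ = -((R u)⁻¹ * polar R u (z + -((R v)⁻¹ * polar R v z) • v)) :=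
        ⟨_, rfl⟩
      obtain ⟨c₂, hc₂⟩ : ∃ c₂, c₂ = -((R v)⁻¹ * polar R v z) := ⟨_, rfl⟩
      rw [← hc₁, ← hc₂] at hs
      rw [← hc₂] at hc
      have e := congrArg (c₂⁻¹ • ·) hs
      simp only [inv_smul_smul₀ hc] at e
      exact hvu (-(c₁ / c₂)) (e.trans (by rw [div_eq_inv_mul]; module))
    rw [hc2, zero_smul, add_zero, add_sub_cancel_left, smul_eq_zero,
      or_iff_left (fun h => hu0 (by rw [h, QuadraticMap.map_zero]))] at hs
    have hl0 : lam - 1 ≠ 0 := sub_ne_zero.2 hlam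
    rw [QuadraticMap.polar_comm R u z, hzu] at hs
    rw [QuadraticMap.polar_comm R v z, hzv] at hc2
    rcases hαβ with h | h
    · exact mul_ne_zero (inv_ne_zero hv0) (neg_ne_zero.2 (mul_ne_zero hl0 h)) (neg_eq_zero.1 hc2)
    · exact mul_ne_zero (inv_ne_zero hu0) (neg_ne_zero.2 (mul_ne_zero hl0 h)) (neg_eq_zero.1 hs)
  exact ii_of_eich S hK he he0 hee (by rw [QuadraticMap.polar_sub_right, hexz, hez, sub_self]) hA hml hm

/-- A vector of three blocks paired with its image under a block pair. -/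
theorem ii_of_three (S : T2 R D) (hK : Ov R D K) {v w : V} (hvw : Pr K v w) {i j : Fin t} (hij : i ≠ j)
    {a b : V} (ha : a ∈ D i) (hb : b ∈ D j) (hab : Pr K a b) (hw : (rr R a * rr R b).1 w = w)
    (hav : polar R a v ≠ 0) {p₁ p₂ p₃ : Fin t} (h12 : p₁ ≠ p₂) (h13 : p₁ ≠ p₃) (h23 : p₂ ≠ p₃)
    (n1 : cp S.bd v p₁ ≠ 0) (n2 : cp S.bd v p₂ ≠ 0) (n3 : cp S.bd v p₃ ≠ 0) : II D K := by
  classical
  have O := S.bd
  obtain ⟨v', hv'⟩ : ∃ v', v' = (rr R a * rr R b).1 v := ⟨_, rfl⟩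
  have hP : Pr K v v' := by
    have h := hvw.map hab.2.2.2
    rw [hw, ← hv'] at h
    exact hvw.trans h.symm
  obtain ⟨β, hβ⟩ : ∃ β : F, β = -((R b)⁻¹ * polar R b v) := ⟨_, rfl⟩
  obtain ⟨α, hα⟩ : ∃ α : F, α = -((R a)⁻¹ * polar R a v) := ⟨_, rfl⟩
  have hα0 : α ≠ 0 := hα ▸ neg_ne_zero.2 (mul_ne_zero (inv_ne_zero hab.1) hav)
  have hval : v' = v + β • b + α • a := by
    rw [hv']
    show (rr R a).1 ((rr R b).1 v) = _
    rw [rr_apply hab.2.1, ← hβ, rr_apply hab.1, QuadraticMap.polar_add_right,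
      QuadraticMap.polar_smul_right, block_perp O hij ha hb, smul_zero, add_zero, ← hα]
  have hout : ∀ m, m ≠ i → m ≠ j → cp S.bd v' m = cp S.bd v m := fun m hmi hmj => by
    rw [hval, cp_add, cp_add, cp_smul, cp_smul, cp_other S.bd hb hmj.symm, cp_other S.bd ha hmi.symm,
      smul_zero, smul_zero, add_zero, add_zero]
  obtain ⟨m, hmi, hmj, hm0⟩ : ∃ m, m ≠ i ∧ m ≠ j ∧ cp S.bd v m ≠ 0 := by
    by_contra hno
    push Not at hno
    have h1 := fun h h' => n1 (hno p₁ h h')
    have h2 := fun h h' => n2 (hno p₂ h h')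
    have h3 := fun h h' => n3 (hno p₃ h h')
    grind
  have hne : ∀ s : F, v ≠ s • v' := by
    intro s hs
    have h := congrArg (fun x => cp S.bd x m) hs
    simp only [cp_smul, hout m hmi hmj] at h
    have hs1 : s = 1 := by
      by_contra hs1
      have : (1 - s) • cp S.bd v m = 0 := by rw [sub_smul, one_smul, ← h, sub_self]
      exact hm0 ((smul_eq_zero.1 this).resolve_left (sub_ne_zero.2 (Ne.symm hs1)))
    rw [hs1, one_smul, hval, add_assoc, left_eq_add] at hs
    have h' := congrArg (fun x => cp S.bd x i) hs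
    simp only [cp_add, cp_smul, cp_other S.bd hb hij.symm, cp_self S.bd ha, smul_zero, zero_add,
      cp_self S.bd (zero_mem (D i))] at h'
    exact hα0 ((smul_eq_zero.1 h').resolve_right fun e => hab.1 (by rw [e, QuadraticMap.map_zero]))
  by_cases hg : cp S.bd v m = 0 ∨ R (cp S.bd v m) ≠ 0
  swap
  · push Not at hg
    refine ii_of_torus S hK hP hne (cp_mem S.bd v m) hg.1 hg.2 (α := 1) (β := 1) (by rw [one_smul])
      (by rw [one_smul, hout m hmi hmj]) (Or.inl one_ne_zero)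
  obtain ⟨c, hc, hc0, hvc⟩ := exists_perp_block S hg
  have hv'c : polar R v' c = 0 := by rw [← cp_polar S.bd v' hc, hout m hmi hmj, cp_polar S.bd v hc, hvc]
  refine ii_of_fix O hK S.conn hP.2.2.2 (fun hmono => ?_) hc hc0 ?_
  · obtain ⟨p, q, hv, -, -⟩ := pair_mono O hP.1 hP.2.1 hne hmono
    have h1 := fun h h' => n1 (cp_zero_of_two S.bd hv h h')
    have h2 := fun h h' => n2 (cp_zero_of_two S.bd hv h h')
    have h3 := fun h h' => n3 (cp_zero_of_two S.bd hv h h')
    grind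
  · show (rr R v).1 ((rr R v').1 c) = c
    rw [rr_perp hv'c, rr_perp hvc]

theorem exists_class_at (S : T2 R D) {g : quadIso R} {y : V} {p : Fin t} (hy : y ∈ D p) (hy0 : y ≠ 0)
    {c : F} (hc : c ≠ 0) : ∃ i, ∃ a ∈ D i, R a = c ∧ cp S.bd (g.1 a) p ≠ 0 ∧ polar R (g.1 a) y ≠ 0 := by
  have O := S.bd
  obtain ⟨x, hx⟩ : ∃ x, polar R (g.1 x) y ≠ 0 := by
    by_contra hno
    push Not at hno
    refine hy0 (O.nd.1 y fun w => ?_)
    show polar R y w = 0
    rw [QuadraticMap.polar_comm, ← g.1.apply_symm_apply w]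
    exact hno _
  obtain ⟨i, hi⟩ : ∃ i, polar R (g.1 (cp S.bd x i)) y ≠ 0 := by
    by_contra hno
    push Not at hno
    refine hx ?_
    rw [← sum_cp S.bd x, map_sum, ← QuadraticMap.polarBilin_apply_apply, map_sum, LinearMap.sum_apply]
    exact Finset.sum_eq_zero fun i _ => hno i
  have happ : ∀ a, ((polarBilin R y).comp (g.1 : V →ₗ[F] V)) a = polar R (g.1 a) y := fun a =>
    QuadraticMap.polar_comm R y (g.1 a)
  obtain ⟨a, ha, haR, h1⟩ := exists_class (S.plane i) (S.big i)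
    ((polarBilin R y).comp (g.1 : V →ₗ[F] V)) ⟨_, cp_mem S.bd x i, by rwa [happ]⟩ hc
  rw [happ] at h1
  exact ⟨i, a, ha, haR, cp_ne_of O hy h1, h1⟩

/-- An element moving the blocks gives a related pair. -/
theorem exists_ii (S : T2 R D) (hK : Ov R D K) {g : quadIso R} (hgK : g ∈ K) (hg : ¬ Mono D g) :
    II D K := by
  classical
  have O := S.bd
  obtain ⟨i₀, a₀, ha₀, ha₀R, -, ha₀n⟩ := S.conn g hg 1 one_ne_zero
  have hP0 := S.plane i₀
  let f : Fin t → V →ₗ[F] V := fun m =>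
    { toFun := fun z => cp S.bd (g.1 z) m
      map_add' := fun a b => by rw [map_add, cp_add]
      map_smul' := fun s a => by rw [map_smul, cp_smul, RingHom.id_apply] }
  have hf : ∀ m z, f m z = cp S.bd (g.1 z) m := fun m z => rfl
  -- no block sees a singular line
  by_cases hline : ∃ m, (∀ z ∈ D i₀, R (f m z) = 0) ∧ ∃ z ∈ D i₀, f m z ≠ 0
  · obtain ⟨m, hR, z₁, hz₁, hz₁0⟩ := hline
    obtain ⟨e, he⟩ : ∃ e, e = f m z₁ := ⟨_, rfl⟩
    have heD : e ∈ D m := he ▸ cp_mem S.bd _ m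
    have hee : R e = 0 := he ▸ hR z₁ hz₁
    have he0 : e ≠ 0 := he ▸ hz₁0
    have himg : ∀ z ∈ D i₀, ∃ s : F, f m z = s • e := fun z hz => by
      refine perp_of_sing (S.plane m) heD (cp_mem S.bd _ m) he0 hee ?_
      have h := hR (z₁ + z) ((D i₀).add_mem hz₁ hz)
      rw [map_add, QuadraticMap.map_add R, hR z₁ hz₁, hR z hz, zero_add, zero_add] at h
      rw [he]; exact h
    obtain ⟨y, hy, hey⟩ := exists_block_ne O m (x := g.1 z₁) hz₁0
    have happ : ∀ a, ((polarBilin R y).comp (g.1 : V →ₗ[F] V)) a = polar R (g.1 a) y := fun a =>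
      QuadraticMap.polar_comm R y (g.1 a)
    obtain ⟨a₁, ha₁, ha₁R, h1⟩ := exists_class hP0 (S.big i₀)
      ((polarBilin R y).comp (g.1 : V →ₗ[F] V)) ⟨z₁, hz₁, by rwa [happ]⟩ (one_ne_zero (α := F))
    rw [happ] at h1
    have ha₁0 : a₁ ≠ 0 := fun h => h1 (by rw [h, map_zero, QuadraticMap.polar_zero_left])
    obtain ⟨p, hp, hp0⟩ := Submodule.exists_mem_ne_zero_of_ne_bot
      (show D i₀ ⊓ LinearMap.ker (polarBilin R a₁) ≠ ⊥ from fun h => by
        have hdim := Orth.finrank_inf_ker (D i₀) (polarBilin R a₁)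
        rw [h, finrank_bot, O.rank] at hdim; omega)
    obtain ⟨a₂, ha₂, ha₂R, h2⟩ := exists_class hP0 (S.big i₀) (polarBilin R p)
      (hP0.exists_polar hp.1 hp0) (one_ne_zero (α := F))
    have hne : ∀ s : F, g.1 a₁ ≠ s • g.1 a₂ := fun s h => by
      rw [← map_smul] at h
      have h' := g.1.injective h
      have hs : s ≠ 0 := fun e => ha₁0 (by rw [h', e, zero_smul])
      refine h2 ?_
      show polar R p a₂ = 0
      have h3 : polar R a₁ p = 0 := hp.2
      rw [h', QuadraticMap.polar_smul_left, smul_eq_mul, QuadraticMap.polar_comm] at h3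
      exact (mul_eq_zero.1 h3).resolve_left hs
    obtain ⟨α, hα⟩ := himg a₁ ha₁
    obtain ⟨β, hβ⟩ := himg a₂ ha₂
    have hα0 : α ≠ 0 := fun h => cp_ne_of O hy h1 (by rw [← hf, hα, h, zero_smul])
    refine ii_of_torus S hK ((pr_block O hK ha₁ ha₂ (by rw [ha₁R]; exact one_ne_zero)
      (by rw [ha₂R]; exact one_ne_zero) (by rw [ha₁R, ha₂R]; exact ⟨1, rfl⟩)).map hgK) hne heD he0 hee
      hα hβ (Or.inl hα0)
  push Not at hline
  -- a vector with three good components
  obtain ⟨L, hL⟩ := exists_pts hP0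
  obtain ⟨z, hz, hzR, hgood⟩ : ∃ z ∈ L, R z ≠ 0 ∧
      3 ≤ (Finset.univ.filter fun m => ¬ (f m z ≠ 0 ∧ R (f m z) = 0)).card := by
    by_contra hno
    push Not at hno
    set N := L.filter fun z => R z ≠ 0 with hN
    have hsplit : L.card ≤ N.card + (L.filter fun z => R z = 0).card := by
      refine le_trans (Finset.card_le_card fun z hz => ?_) (Finset.card_union_le _ _)
      simp only [Finset.mem_union, hN, Finset.mem_filter]
      tauto
    have hbad : ∀ z ∈ N, t ≤ (Finset.univ.filter fun m => f m z ≠ 0 ∧ R (f m z) = 0).card + 2 := by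
      intro z hz
      have h1 : (Finset.univ.filter fun m => ¬ (f m z ≠ 0 ∧ R (f m z) = 0)).card < 3 :=
        lt_of_le_of_lt (Finset.card_le_card fun m hm => by
            simp only [Finset.mem_filter, Finset.mem_univ, true_and] at hm ⊢
            exact fun h => fun h' => hm ⟨h, h'⟩)
          (hno z (Finset.mem_filter.1 hz).1 (Finset.mem_filter.1 hz).2)
      have h2 := Finset.card_filter_add_card_filter_not (s := (Finset.univ : Finset (Fin t)))
        (fun m => f m z ≠ 0 ∧ R (f m z) = 0)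
      rw [Finset.card_univ, Fintype.card_fin] at h2
      omega
    have hcol : ∀ m, (N.filter fun z => f m z ≠ 0 ∧ R (f m z) = 0).card ≤ 2 := by
      intro m
      by_cases hall : ∀ z ∈ D i₀, R (f m z) = 0
      · have hz0 := hline m hall
        rw [Finset.card_eq_zero.2 (Finset.filter_eq_empty_iff.2 fun z hz h =>
          h.1 (hz0 z (hL.mem z (Finset.mem_filter.1 hz).1)))]
        omega
      push Not at hall
      refine le_trans (Finset.card_le_card fun z hz => ?_) (hL.zeros (R.comp (f m)) hall)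
      obtain ⟨h1, h2⟩ := Finset.mem_filter.1 hz
      exact Finset.mem_filter.2 ⟨(Finset.mem_filter.1 h1).1, h2.2⟩
    have hsum := Finset.sum_card_bipartiteAbove_eq_sum_card_bipartiteBelow
      (fun (z : V) (m : Fin t) => f m z ≠ 0 ∧ R (f m z) = 0) (s := N) (t := Finset.univ)
    simp only [Finset.bipartiteAbove, Finset.bipartiteBelow] at hsum
    have hlow : N.card * (t - 2) ≤
        ∑ z ∈ N, (Finset.univ.filter fun m => f m z ≠ 0 ∧ R (f m z) = 0).card := by
      rw [← smul_eq_mul, ← Finset.sum_const]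
      exact Finset.sum_le_sum fun z hz => by have := hbad z hz; omega
    have hup : ∑ m : Fin t, (N.filter fun z => f m z ≠ 0 ∧ R (f m z) = 0).card ≤ t * 2 := by
      refine le_trans (Finset.sum_le_sum fun m _ => hcol m) ?_
      simp
    have ht := S.many
    obtain ⟨hs1, hs2⟩ := hL.sing_le hP0
    have hLc := hL.card
    have hq := Fintype.one_lt_card (α := F)
    by_cases hs : HasSing R (D i₀)
    · have := (S.big i₀).2 hs
      have h6 : 6 ≤ N.card := by omega
      have h7 := Nat.mul_le_mul_right (t - 2) h6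
      omega
    · have := hs2 hs
      obtain ⟨z, hz⟩ : N.Nonempty := Finset.card_pos.1 (by omega)
      have h1 := hbad z hz
      rw [Finset.card_eq_zero.2 (Finset.filter_eq_empty_iff.2 fun m _ h =>
        hs (hasSing_iso O ⟨f m z, cp_mem S.bd _ m, h.1, h.2⟩))] at h1
      omega
  obtain ⟨w, hw⟩ : ∃ w, w = g.1 z := ⟨_, rfl⟩
  obtain ⟨m₁, m₂, m₃, hm₁, hm₂, hm₃, h12, h13, h23⟩ := Finset.two_lt_card_iff.1 hgood
  have hperp : ∀ m ∈ (Finset.univ.filter fun m => ¬ (f m z ≠ 0 ∧ R (f m z) = 0)),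
      ∃ b ∈ D m, R b ≠ 0 ∧ polar R w b = 0 := fun m hm => by
    refine exists_perp_block S ?_
    have h := (Finset.mem_filter.1 hm).2
    rw [hw, ← hf]
    tauto
  obtain ⟨b₁, hb₁, hb₁0, hwb₁⟩ := hperp m₁ hm₁
  obtain ⟨b₂, hb₂, hb₂0, hwb₂⟩ := hperp m₂ hm₂
  obtain ⟨b₃, hb₃, hb₃0, hwb₃⟩ := hperp m₃ hm₃
  obtain ⟨i, j, hij, a, b, ha, hb, ha0, hb0, hwa, hwb, hsq⟩ : ∃ i j : Fin t, i ≠ j ∧ ∃ a b : V,
      a ∈ D i ∧ b ∈ D j ∧ R a ≠ 0 ∧ R b ≠ 0 ∧ polar R w a = 0 ∧ polar R w b = 0 ∧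
      IsSquare (R a * R b) := by
    rcases exists_sq_pair (a := R b₁) (b := R b₂) (c := R b₃) with h | h | h
    · exact ⟨m₁, m₂, h12, b₁, b₂, hb₁, hb₂, hb₁0, hb₂0, hwb₁, hwb₂, h⟩
    · exact ⟨m₁, m₃, h13, b₁, b₃, hb₁, hb₃, hb₁0, hb₃0, hwb₁, hwb₃, h⟩
    · exact ⟨m₂, m₃, h23, b₂, b₃, hb₂, hb₃, hb₂0, hb₃0, hwb₂, hwb₃, h⟩
  have hab := pr_block O hK ha hb ha0 hb0 hsq
  have hcw : (rr R a * rr R b).1 w = w := by
    show (rr R a).1 ((rr R b).1 w) = w
    rw [rr_perp (by rwa [QuadraticMap.polar_comm] : polar R b w = 0),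
      rr_perp (by rwa [QuadraticMap.polar_comm] : polar R a w = 0)]
  -- the images of the block vectors of this class
  have hmemb : ∀ p, ∀ a' ∈ D p, R a' = R z → Pr K (g.1 a') w := fun p a' ha' h => by
    rw [hw]
    exact (pr_block O hK ha' (hL.mem z hz) (by rw [h]; exact hzR) hzR (by rw [h]; exact ⟨R z, rfl⟩)).map hgK
  by_cases hblk : ∃ p, ∃ a' ∈ D p, R a' = R z ∧ Blk D (g.1 a')
  · obtain ⟨p, a', ha', h, hB⟩ := hblk
    obtain ⟨p', a'', ha'', ha''0, hs, hn⟩ := S.conn g hg (R a') (by rw [h]; exact hzR)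
    exact ⟨g.1 a', g.1 a'', hB, hn,
      (pr_block O hK ha' ha'' (by rw [h]; exact hzR) ha''0 hs).map hgK⟩
  push Not at hblk
  obtain ⟨p₀, a', ha', ha'R, hia, hpa⟩ := exists_class_at S (g := g) ha
    (fun h => ha0 (by rw [h, QuadraticMap.map_zero])) hzR
  have hv := hmemb p₀ a' ha' ha'R
  obtain ⟨p, q, hpq, hp, hq⟩ := two_of_not_blk O (hblk p₀ a' ha' ha'R)
  by_cases h3 : ∃ r, r ≠ p ∧ r ≠ q ∧ cp S.bd (g.1 a') r ≠ 0
  · obtain ⟨r, hrp, hrq, hr⟩ := h3
    exact ii_of_three S hK hv hij ha hb hab hcw (by rwa [QuadraticMap.polar_comm]) hpq hrp.symm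
      hrq.symm hp hq hr
  push Not at h3
  have htwo : ∀ n, n ≠ p → n ≠ q → ∀ x ∈ D n, polar R (g.1 a') x = 0 := fun n h1 h2 x hx => by
    rw [← cp_polar S.bd _ hx, h3 n h1 h2, QuadraticMap.polar_zero_left]
  obtain ⟨l, hl⟩ := Finset.card_pos.1 (show 0 < ({p, q} : Finset (Fin t))ᶜ.card by
    rw [Finset.card_compl, Fintype.card_fin, Finset.card_pair hpq]
    have := S.many
    omega)
  simp only [Finset.mem_compl, Finset.mem_insert, Finset.mem_singleton, not_or] at hl
  obtain ⟨yl, hyl, hyl0⟩ := (S.plane l).exists_ne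
  obtain ⟨p₁, a'', ha'', ha''R, hlu, -⟩ := exists_class_at S (g := g) hyl
    (fun h => hyl0 (by rw [h, QuadraticMap.map_zero])) hzR
  have huv : Pr K (g.1 a'') (g.1 a') := (hmemb p₁ a'' ha'' ha''R).trans hv.symm
  obtain ⟨u₁, u₂, hu12, hu1, hu2⟩ := two_of_not_blk O (hblk p₁ a'' ha'' ha''R)
  by_cases h3' : ∃ r, r ≠ u₁ ∧ r ≠ u₂ ∧ cp S.bd (g.1 a'') r ≠ 0
  · obtain ⟨r, hr1, hr2, hr⟩ := h3'
    obtain ⟨n, hn⟩ := Finset.card_pos.1 (show 0 < ({p, q, l} : Finset (Fin t))ᶜ.card by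
      rw [Finset.card_compl, Fintype.card_fin]
      have h := Finset.card_le_three (a := p) (b := q) (c := l)
      have := S.many
      omega)
    simp only [Finset.mem_compl, Finset.mem_insert, Finset.mem_singleton, not_or] at hn
    obtain ⟨yl', hyl', hyl'0⟩ := exists_block_ne O l hlu
    obtain ⟨c, hc, hcR, hcu⟩ := exists_class (S.plane l) (S.big l) (polarBilin R (g.1 a''))
      ⟨yl', hyl', hyl'0⟩ (one_ne_zero (α := F))
    obtain ⟨yn, hyn, hyn0⟩ := (S.plane n).exists_ne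
    obtain ⟨c', hc', hc'R, -⟩ := exists_class (S.plane n) (S.big n) (polarBilin R yn)
      ((S.plane n).exists_polar hyn fun h => hyn0 (by rw [h, QuadraticMap.map_zero]))
      (one_ne_zero (α := F))
    refine ii_of_three S hK huv (Ne.symm hn.2.2) hc hc'
      (pr_block O hK hc hc' (by rw [hcR]; exact one_ne_zero) (by rw [hc'R]; exact one_ne_zero)
        (by rw [hcR, hc'R]; exact ⟨1, rfl⟩)) ?_
      (by rw [QuadraticMap.polar_comm]; exact hcu) hu12 hr1.symm hr2.symm hu1 hu2 hr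
    show (rr R c).1 ((rr R c').1 (g.1 a')) = g.1 a'
    rw [rr_perp (show polar R c' (g.1 a') = 0 by
        rw [QuadraticMap.polar_comm]; exact htwo n hn.1 hn.2.1 c' hc'),
      rr_perp (show polar R c (g.1 a') = 0 by
        rw [QuadraticMap.polar_comm]; exact htwo l hl.1 hl.2 c hc)]
  push Not at h3'
  obtain ⟨n, hn⟩ := Finset.card_pos.1 (show 0 < ({p, q, u₁, u₂} : Finset (Fin t))ᶜ.card by
    rw [Finset.card_compl, Fintype.card_fin]
    have h := Finset.card_le_four (a := p) (b := q) (c := u₁) (d := u₂)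
    have := S.many
    omega)
  simp only [Finset.mem_compl, Finset.mem_insert, Finset.mem_singleton, not_or] at hn
  obtain ⟨b', hb', hb'0⟩ := (S.plane n).exists_ne
  refine ii_of_fix O hK S.conn huv.2.2.2 (fun hmono => ?_) hb' hb'0 ?_
  · obtain ⟨x, y, hu, hv', -⟩ := pair_mono O huv.1 huv.2.1
      (fun s h => hlu (by rw [h, cp_smul, h3 l hl.1 hl.2, smul_zero])) hmono
    have h1 := fun h h' => hp (cp_zero_of_two S.bd hv' h h')
    have h2 := fun h h' => hq (cp_zero_of_two S.bd hv' h h')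
    have h4 := fun h h' => hlu (cp_zero_of_two S.bd hu h h')
    grind
  · show (rr R (g.1 a'')).1 ((rr R (g.1 a')).1 b') = b'
    rw [rr_perp (htwo n hn.1 hn.2.1 b' hb'), rr_perp (by
      rw [← cp_polar S.bd _ hb', h3' n hn.2.2.1 hn.2.2.2, QuadraticMap.polar_zero_left])]

end CfsgLib.MaxSub.OrthBlocks
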